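import Groth.Agent.L22.Nef.Proper
import Groth.Agent.L22.CurveDeg.PushStalk

/-!
Descent of nefness along surjective morphisms.
-/

set_option autoImplicit false
set_option backward.isDefEq.respectTransparency false
set_option linter.style.haveILetI false
set_option linter.unusedSectionVars false
universe u

open CategoryTheory CategoryTheory.Limits AlgebraicGeometry TopologicalSpace

noncomputable section

namespace Groth.L22.Nef

open Groth.L22.Inter Groth.L03.Euler Groth.L16

variable {k : Type u} [Field k] {X Y : Scheme.{u}} [X.Over (Spec (CommRingCat.of k))]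
  [IsProper (X ↘ Spec (CommRingCat.of k))] [Y.Over (Spec (CommRingCat.of k))]
  [IsProper (Y ↘ Spec (CommRingCat.of k))]

/-- A dominant morphism of integral schemes of one dimension has positive degree. -/
theorem residueDegree_pos [IsIntegral X] [IsIntegral Y] (f : X ⟶ Y) [IsProper f]
    (hf : f ≫ (Y ↘ Spec (CommRingCat.of k)) = X ↘ Spec (CommRingCat.of k))
    (hξ : f (genericPoint X) = genericPoint Y) {d : ℕ} (hX : topologicalKrullDim X = d)
    (hY : topologicalKrullDim Y = d) : 0 < f.residueDegree (genericPoint X) := by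
  haveI := Groth.L21.RR.isNoetherian_of_proper (X := X) k
  haveI := Groth.L21.RR.isNoetherian_of_proper (X := Y) k
  have hηd : topologicalKrullDim (closure ({genericPoint Y} : Set Y)) = d := by
    rw [(genericPoint_spec Y).def, ← hY]
    exact IsHomeomorph.topologicalKrullDim_eq _ (Homeomorph.Set.univ Y).isHomeomorph
  have huniq : ∀ x', f x' = genericPoint Y → x' = genericPoint X := fun x' hx' => by
    obtain ⟨a, b, ha, -, hab⟩ := Groth.L22.FibreDim.exists_dim_closure_add k f hf x'
    rw [hx', hηd] at ha
    refine Groth.L07.EquidimQF.eq_genericPoint_of_dim_le hX.le ?_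
    rw [hab]
    have : d = a := by exact_mod_cast ha
    exact_mod_cast this.le.trans (Nat.le_add_right a b)
  rw [← Groth.L22.CurveDeg.len_push_structure_eq_residueDegree f f.isClosedMap hξ huniq]
  let O := (Scheme.Modules.pushforward f).obj (Coh.structureModule X)
  have hO : Coh.IsCoh O :=
    Groth.L16.Exist.isCoh_pushforward f (CohClosedPush.isCoh_structure (X := X))
  haveI : Surjective f := ⟨fun y => by
    have h2 : y ∈ closure ({genericPoint Y} : Set Y) := by rw [(genericPoint_spec Y).def]; trivial
    exact (closure_minimal (Set.singleton_subset_iff.2 (show genericPoint Y ∈ Set.range f from ⟨_, hξ⟩))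
      f.isClosedMap.isClosed_range) h2⟩
  have hnt : Nontrivial (O.presheaf.stalk (genericPoint Y)) := by
    rw [← hξ]
    exact Rees.FiniteAmple.nontrivial_stalk_push f ⟨_, rfl⟩
  refine Nat.pos_of_ne_zero fun h0 => ?_
  rcases ENat.toNat_eq_zero.1 h0 with h | h
  · exact (CohSupport.len_eq_zero_iff (genericPoint Y) O).1 h fun hs => not_subsingleton_iff_nontrivial.2 hnt hs
  · exact CohSupport.len_ne_top hO (fun z _ hzy => (hzy.antisymm (genericPoint_specializes z)).eq) h

/-- Nefness descends along surjections. -/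
theorem IsNef.of_pullback (f : Y ⟶ X) [Surjective f]
    (hf : f ≫ (X ↘ Spec (CommRingCat.of k)) = Y ↘ Spec (CommRingCat.of k)) {L : X.Modules}
    (hL : PicF.IsInvertible L) (h : IsNef k ((Scheme.Modules.pullback f).obj L)) : IsNef k L := by
  haveI := Groth.L21.RR.isNoetherian_of_proper (X := X) k
  haveI := Groth.L21.RR.isNoetherian_of_proper (X := Y) k
  haveI : IsProper (f ≫ (X ↘ Spec (CommRingCat.of k))) := by rw [hf]; infer_instance
  haveI : IsProper f := IsProper.of_comp f (X ↘ Spec (CommRingCat.of k))
  refine ⟨hL, fun y hy => ?_⟩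
  obtain ⟨x₀, hx₀⟩ := f.surjective y
  obtain ⟨x, hx, -, hxcl⟩ := Groth.L22.FibreDim.exists_closure_inter_eq f (x := x₀)
  have hxy : f x = y := hx.trans hx₀
  obtain ⟨a, b, ha, hb, hab⟩ := Groth.L22.FibreDim.exists_dim_closure_add k f hf x
  rw [hxcl] at hb
  haveI : DiscreteTopology ({x} : Set Y) := Subsingleton.discreteTopology
  have hb0 : b = 0 := by
    have h0 := topologicalKrullDim_zero_of_discreteTopology ({x} : Set Y)
    rw [hb] at h0
    exact Nat.le_zero.1 (by exact_mod_cast h0)
  rw [hxy, hy] at ha
  have hxd : topologicalKrullDim (closure ({x} : Set Y)) = (1 : ℕ) := by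
    rw [hab, hb0, add_zero]; exact ha.symm
  have hnn := h.2 x hxd
  haveI := isIntegral_pt x
  haveI := isIntegral_pt y
  let i := (pt x).subschemeι
  let j := (pt y).subschemeι
  letI : (pt x).subscheme.Over (Spec (CommRingCat.of k)) := ⟨i ≫ (Y ↘ Spec (CommRingCat.of k))⟩
  haveI : IsProper ((pt x).subscheme ↘ Spec (CommRingCat.of k)) :=
    inferInstanceAs (IsProper (i ≫ (Y ↘ Spec (CommRingCat.of k))))
  letI : (pt y).subscheme.Over (Spec (CommRingCat.of k)) := ⟨j ≫ (X ↘ Spec (CommRingCat.of k))⟩
  haveI : IsProper ((pt y).subscheme ↘ Spec (CommRingCat.of k)) :=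
    inferInstanceAs (IsProper (j ≫ (X ↘ Spec (CommRingCat.of k))))
  have hdx : topologicalKrullDim (pt x).subscheme = (1 : ℕ) := by rw [← dim_closure_image i, genericPoint_pt, hxd]
  have hdy : topologicalKrullDim (pt y).subscheme = (1 : ℕ) := by rw [← dim_closure_image j, genericPoint_pt, hy]
  have hrange : Set.range (i ≫ f) ⊆ closure {y} := by
    rintro _ ⟨w, rfl⟩
    rw [← hxy, Scheme.Hom.comp_apply]
    have h2 : i w ∈ closure ({x} : Set Y) := (range_pt x).le ⟨w, rfl⟩
    exact specializes_iff_mem_closure.1 ((specializes_iff_mem_closure.2 h2).map f.continuous)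
  have hle : j.ker ≤ (i ≫ f).ker := by
    rw [Scheme.IdealSheafData.ker_subschemeι]
    exact Groth.L18.vanishingIdeal_le_ker (i ≫ f) _ hrange
  let g : (pt x).subscheme ⟶ (pt y).subscheme := IsClosedImmersion.lift j (i ≫ f) hle
  have hg : g ≫ j = i ≫ f := IsClosedImmersion.lift_fac _ _ _
  have hgk : g ≫ ((pt y).subscheme ↘ Spec (CommRingCat.of k)) = (pt x).subscheme ↘ Spec (CommRingCat.of k) := by
    show g ≫ j ≫ _ = i ≫ _
    rw [← Category.assoc, hg, Category.assoc, hf]
  haveI : IsProper (g ≫ ((pt y).subscheme ↘ Spec (CommRingCat.of k))) := by rw [hgk]; infer_instance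
  haveI : IsProper g := IsProper.of_comp g ((pt y).subscheme ↘ Spec (CommRingCat.of k))
  have hgη : g (genericPoint (pt x).subscheme) = genericPoint (pt y).subscheme := by
    apply j.isClosedEmbedding.injective
    rw [← Scheme.Hom.comp_apply, hg, Scheme.Hom.comp_apply, genericPoint_pt, hxy, genericPoint_pt]
  have hm := residueDegree_pos g hgk hgη hdx hdy
  have h1 := altT_push_eq k i rfl hdx (L := fun _ : Fin 1 => (Scheme.Modules.pullback f).obj L)
    fun _ => Groth.L18.Ample.isInvertible_pullback f hL
  rw [genericPoint_pt] at h1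
  rw [← h1, altT_congr k
    (L := fun _ : Fin 1 => (Scheme.Modules.pullback i).obj ((Scheme.Modules.pullback f).obj L))
    (L' := fun _ : Fin 1 => (Scheme.Modules.pullback g).obj ((Scheme.Modules.pullback j).obj L))
    (fun _ => ⟨(Scheme.Modules.pullbackComp i f).app L ≪≫ (Scheme.Modules.pullbackCongr hg).symm.app L ≪≫
      ((Scheme.Modules.pullbackComp g j).app L).symm⟩),
    altT_pullback k g hgk hgη hdx (L := fun _ : Fin 1 => (Scheme.Modules.pullback j).obj L)
      fun _ => Groth.L18.Ample.isInvertible_pullback j hL] at hnn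
  have h2 := altT_push_eq k j rfl hdy (L := fun _ : Fin 1 => L) fun _ => hL
  rw [genericPoint_pt] at h2
  rw [← h2]
  exact (mul_nonneg_iff_of_pos_left (Nat.cast_pos.2 hm)).1 hnn

end Groth.L22.Nef
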