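import Groth.Agent.L22.Nef.Kleiman
import Groth.Agent.L08.Cube.Inverse

/-!
Translations between the various ways of stating nefness.
-/

set_option autoImplicit false
set_option backward.isDefEq.respectTransparency false
set_option linter.style.haveILetI false
set_option linter.unusedSectionVars false
universe u

open CategoryTheory CategoryTheory.Limits AlgebraicGeometry TopologicalSpace

noncomputable section

namespace Groth.L22.Nef

open Groth.L22.Inter Groth.L03.Euler Groth.L16

variable (k : Type u) [Field k] {X : Scheme.{u}} [X.Over (Spec (CommRingCat.of k))]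

/-- An integral closed subscheme is the reduced subscheme on the closure of its generic point. -/
theorem eq_pt (C : X.IdealSheafData) [IsIntegral C.subscheme] :
    C = pt (C.subschemeι (genericPoint C.subscheme)) := by
  let i := C.subschemeι
  let y : X := i (genericPoint C.subscheme)
  have hsupp : (C.support : Set X) = closure {y} := by
    rw [← C.range_subschemeι]; exact range_eq_closure i
  refine le_antisymm ((Scheme.IdealSheafData.le_support_iff_le_vanishingIdeal).1 hsupp.ge) ?_
  have hle : i.ker ≤ (pt y).subschemeι.ker := by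
    rw [Scheme.IdealSheafData.ker_subschemeι, Scheme.IdealSheafData.ker_subschemeι]
    exact (Scheme.IdealSheafData.le_support_iff_le_vanishingIdeal).1 hsupp.ge
  let j : (pt y).subscheme ⟶ C.subscheme := IsClosedImmersion.lift i (pt y).subschemeι hle
  have hj : j ≫ i = (pt y).subschemeι := IsClosedImmersion.lift_fac _ _ _
  haveI : IsClosedImmersion (j ≫ i) := hj ▸ inferInstance
  haveI : IsClosedImmersion j := IsClosedImmersion.of_comp j i
  haveI : Surjective j := ⟨fun t => by
    obtain ⟨z, hz⟩ : i t ∈ Set.range (pt y).subschemeι := by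
      rw [range_pt, ← hsupp, ← C.range_subschemeι]; exact ⟨t, rfl⟩
    exact ⟨z, i.isClosedEmbedding.injective (by rw [← Scheme.Hom.comp_apply, hj]; exact hz)⟩⟩
  haveI : IsIso j := isIso_of_isClosedImmersion_of_surjective j
  have h1 : (pt y).subschemeι.ker ≤ C := by
    conv_rhs => rw [← Scheme.IdealSheafData.ker_subschemeι (I := C)]
    rw [show C.subschemeι = inv j ≫ (pt y).subschemeι from
      ((IsIso.inv_hom_id_assoc j i).symm.trans (congrArg (inv j ≫ ·) hj))]
    exact Scheme.Hom.le_ker_comp (inv j) (pt y).subschemeι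
  rwa [Scheme.IdealSheafData.ker_subschemeι] at h1

theorem dim_support (C : X.IdealSheafData) [IsIntegral C.subscheme] :
    topologicalKrullDim (C.support : Set X) =
      topologicalKrullDim (closure ({C.subschemeι (genericPoint C.subscheme)} : Set X)) := by
  rw [← C.range_subschemeι, range_eq_closure]

variable [IsProper (X ↘ Spec (CommRingCat.of k))] {L : X.Modules}

/-- The degree as an Euler characteristic difference. -/
theorem altT_one (L F : X.Modules) : altT k (fun _ : Fin 1 => L) F =
    ((Curv2.euler k X (CohB1.tensorMod F L) - Curv2.euler k X F : ℤ) : ℚ) := by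
  rw [altT_succ, altT_zero_eq, altT_zero_eq]
  push_cast
  rfl

/-- Nefness through integral closed subschemes. -/
theorem isNef_iff (hL : PicF.IsInvertible L) : IsNef k L ↔
    ∀ C : X.IdealSheafData, IsIntegral C.subscheme → topologicalKrullDim (C.support : Set X) = 1 →
      0 ≤ Curv2.euler k X (CohB1.tensorMod (ClSub.quotMod C) L) - Curv2.euler k X (ClSub.quotMod C) := by
  refine ⟨fun h C hC hd => ?_, fun h => ⟨hL, fun y hy => ?_⟩⟩
  · have h1 := h.2 _ ((dim_support C).symm.trans hd)
    rw [← eq_pt C, altT_one] at h1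
    exact_mod_cast h1
  · haveI := isIntegral_pt y
    rw [altT_one]
    exact_mod_cast h (pt y) inferInstance (by rw [Groth.L18.support_vanishingIdeal]; exact hy)

/-- The degree on an integral curve in a closed immersion. -/
theorem curveDeg_eq (hL : PicF.IsInvertible L) {Y : Scheme.{u}} (i : Y ⟶ X) [IsClosedImmersion i]
    [IsIntegral Y] (hd : topologicalKrullDim Y = (1 : ℕ)) :
    ((Pic13.curveDeg k (i ≫ (X ↘ Spec (CommRingCat.of k))) ((Scheme.Modules.pullback i).obj L) : ℤ) : ℚ) =
      altT k (fun _ : Fin 1 => L) (ClSub.quotMod (pt (i (genericPoint Y)))) := by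
  letI : Y.Over (Spec (CommRingCat.of k)) := ⟨i ≫ (X ↘ Spec (CommRingCat.of k))⟩
  haveI : IsProper (Y ↘ Spec (CommRingCat.of k)) :=
    inferInstanceAs (IsProper (i ≫ (X ↘ Spec (CommRingCat.of k))))
  haveI := Groth.L21.RR.isNoetherian_of_proper (X := Y) k
  rw [← altT_push_eq k i rfl hd (L := fun _ : Fin 1 => L) fun _ => hL, altT_one,
    euler_iso (Groth.L00.Tensor.tensorUnitLeft ((Scheme.Modules.pullback i).obj L))]
  exact congrArg (Int.cast : ℤ → ℚ)
    (congrArg₂ (· - ·) (eulerCharLE_eq k hd.le _) (eulerCharLE_eq k hd.le _))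

theorem isNef_iff_curveDeg (hL : PicF.IsInvertible L) : IsNef k L ↔
    ∀ (Y : Scheme.{u}) (i : Y ⟶ X) [IsClosedImmersion i], IsIntegral Y → topologicalKrullDim Y = 1 →
      0 ≤ Pic13.curveDeg k (i ≫ (X ↘ Spec (CommRingCat.of k))) ((Scheme.Modules.pullback i).obj L) := by
  refine ⟨fun h Y i _ hY hd => ?_, fun h => ⟨hL, fun y hy => ?_⟩⟩
  · have h1 := h.2 _ ((dim_closure_image i).trans hd)
    rw [← curveDeg_eq k hL i hd] at h1
    exact_mod_cast h1
  · haveI := isIntegral_pt y
    have hd : topologicalKrullDim (pt y).subscheme = (1 : ℕ) := by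
      rw [← dim_closure_image (pt y).subschemeι, genericPoint_pt, hy]
    have h1 := curveDeg_eq k hL (pt y).subschemeι hd
    rw [genericPoint_pt] at h1
    rw [← h1]
    exact_mod_cast h _ (pt y).subschemeι inferInstance hd

end Groth.L22.Nef
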