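import Groth.Agent.L22.Nakai.Main
import Groth.Agent.L22.Inter.Point

/-!
Ampleness on irreducible components, over a Noetherian base ring.
-/

set_option autoImplicit false
set_option backward.isDefEq.respectTransparency false
set_option linter.style.haveILetI false
universe u

open CategoryTheory CategoryTheory.Limits AlgebraicGeometry TopologicalSpace

noncomputable section

namespace Groth.L22.Nef

open Groth.L16 Groth.L16.Rees.FiniteAmple

theorem isNoetherian_of_proper {A : Type u} [CommRing A] [IsNoetherianRing A] {X : Scheme.{u}}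
    (g : X ⟶ Spec (CommRingCat.of A)) [IsProper g] : IsNoetherian X := by
  haveI : IsLocallyNoetherian X := LocallyOfFiniteType.isLocallyNoetherian g
  haveI : CompactSpace X := QuasiCompact.compactSpace_of_compactSpace g
  exact {}

/-- An invertible module is ample when it is ample on every integral closed subscheme. -/
theorem isAmple_of_integrals {A : Type u} [CommRing A] [IsNoetherianRing A] {X : Scheme.{u}}
    (g : X ⟶ Spec (CommRingCat.of A)) [IsProper g] {L : X.Modules} (hL : PicF.IsInvertible L)
    (hsub : ∀ (C : Scheme.{u}) (i : C ⟶ X) [IsClosedImmersion i] [IsIntegral C],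
      CohB1.IsAmple ((Scheme.Modules.pullback i).obj L)) : CohB1.IsAmple L := by
  haveI := isNoetherian_of_proper g
  refine Rees.SerreCrit.isAmple_of_vanishing hL fun I ι hι hI => ?_
  haveI := hι
  haveI := hI
  suffices ∀ M : X.Modules, Coh.IsCoh M → Van L M 1 by
    obtain ⟨n₀, hn⟩ := this I (Rees.RelVanish.isCoh_of_mono ι (Rees.RelVanish.isCoh_structureModule X))
    exact ⟨n₀, ProjSpace.subsingleton_of_iso (Groth.L00.Tensor.tensorComm _ _) 1 (hn (n₀ + 1) n₀.le_succ)⟩
  intro M hM
  refine Devissage.devissage_ideals (P := fun M => Van L M 1)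
    (fun M N e h => Groth.L22.Nakai.Van_of_iso e.some h) (fun M h => Van.of_isZero hL h 1)
    (fun S hS _ _ _ a c => Van.middle hL hS a c) (fun Z i hi hZ J j hj hJ => ?_) hM
  haveI := hi; haveI := hZ; haveI := hj; haveI := hJ
  haveI := isNoetherian_of_proper (i ≫ g)
  refine Van.of_push hL i J ?_
  obtain ⟨d₀, hd₀⟩ := Rees.RelVanish.exists_vanishing (i ≫ g) (hsub Z i)
    (Rees.RelVanish.isCoh_of_mono j (Rees.RelVanish.isCoh_structureModule Z))
  exact ⟨d₀, fun d hd => ProjSpace.subsingleton_of_iso (Groth.L00.Tensor.tensorComm _ _) 1 (hd₀ d hd 1 one_pos)⟩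

/-- An invertible module is ample when it is ample on every irreducible component. -/
theorem isAmple_iff_components {A : Type u} [CommRing A] [IsNoetherianRing A] {X : Scheme.{u}}
    (g : X ⟶ Spec (CommRingCat.of A)) [IsProper g] {L : X.Modules} (hL : PicF.IsInvertible L) :
    CohB1.IsAmple L ↔
      ∀ Z : Closeds ↥X, (Z : Set ↥X) ∈ irreducibleComponents ↥X →
        CohB1.IsAmple ((Scheme.Modules.pullback
          (Scheme.IdealSheafData.vanishingIdeal Z).subschemeι).obj L) := by
  refine ⟨fun h Z _ => Groth.L18.Ample.isAmple_pullback_of_isAffineHom _ h, fun h =>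
    isAmple_of_integrals g hL fun C i _ _ => ?_⟩
  have hirr : IsIrreducible (Set.range i) := by
    rw [← Set.image_univ]
    exact (IrreducibleSpace.isIrreducible_univ C).image _ i.continuous.continuousOn
  obtain ⟨T, hT, hiT⟩ := exists_mem_irreducibleComponents_subset_of_isIrreducible (Set.range i) hirr
  let Z : Closeds X := ⟨T, isClosed_of_mem_irreducibleComponents T hT⟩
  let V := Scheme.IdealSheafData.vanishingIdeal Z
  let y : X := i (genericPoint C)
  have hr : Set.range i = closure {y} := by
    refine Set.Subset.antisymm ?_ (closure_minimal (Set.singleton_subset_iff.2 ⟨_, rfl⟩)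
      i.isClosedEmbedding.isClosed_range)
    rintro _ ⟨z, rfl⟩
    exact specializes_iff_mem_closure.1 ((genericPoint_specializes z).map i.continuous)
  let P := Groth.L22.Inter.pt y
  have hle : i.ker ≤ P.subschemeι.ker := by
    rw [Scheme.IdealSheafData.ker_subschemeι, ← Scheme.IdealSheafData.le_support_iff_le_vanishingIdeal]
    show closure {y} ⊆ _
    rw [Scheme.Hom.support_ker, hr]
    exact subset_closure
  let j₀ : P.subscheme ⟶ C := IsClosedImmersion.lift i P.subschemeι hle
  have hj₀ : j₀ ≫ i = P.subschemeι := IsClosedImmersion.lift_fac _ _ _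
  haveI : IsClosedImmersion (j₀ ≫ i) := hj₀ ▸ inferInstance
  haveI : IsClosedImmersion j₀ := IsClosedImmersion.of_comp j₀ i
  haveI : Surjective j₀ := ⟨fun t => by
    obtain ⟨z, hz⟩ : i t ∈ Set.range P.subschemeι := by rw [Groth.L22.Inter.range_pt, ← hr]; exact ⟨t, rfl⟩
    exact ⟨z, i.isClosedEmbedding.injective (by rw [← Scheme.Hom.comp_apply, hj₀]; exact hz)⟩⟩
  haveI : IsIso j₀ := isIso_of_isClosedImmersion_of_surjective j₀
  have hle' : V.subschemeι.ker ≤ P.subschemeι.ker := by
    rw [Scheme.IdealSheafData.ker_subschemeι, Scheme.IdealSheafData.ker_subschemeι]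
    exact Scheme.IdealSheafData.vanishingIdeal_antimono
      (show (closure {y} : Set X) ⊆ T from hr ▸ hiT)
  let j : C ⟶ V.subscheme := inv j₀ ≫ IsClosedImmersion.lift V.subschemeι P.subschemeι hle'
  have hj : j ≫ V.subschemeι = i := by
    rw [Category.assoc, IsClosedImmersion.lift_fac, ← hj₀, IsIso.inv_hom_id_assoc]
  haveI : IsClosedImmersion (j ≫ V.subschemeι) := hj ▸ inferInstance
  haveI : IsClosedImmersion j := IsClosedImmersion.of_comp j V.subschemeι
  exact Groth.L18.Ample.isAmple_of_iso
    ((Scheme.Modules.pullbackComp j V.subschemeι).app L ≪≫ (Scheme.Modules.pullbackCongr hj).app L)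
    (Groth.L18.Ample.isAmple_pullback_of_isAffineHom j (h Z hT))

end Groth.L22.Nef
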