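import Groth.Agent.L22.Nef.Bridge
import Groth.Agent.L22.Nef.Components

/-!
Strictly nef modules: no curve contracted, and ampleness from sections.
-/

set_option autoImplicit false
set_option backward.isDefEq.respectTransparency false
set_option linter.style.haveILetI false
set_option linter.unusedSectionVars false
universe u

open CategoryTheory CategoryTheory.Limits AlgebraicGeometry TopologicalSpace

noncomputable section

namespace Groth.L22.Nef

open Groth.L22.Inter Groth.L03.Euler Groth.L16

/-- A noetherian sober space with a non closed point has an irreducible closed subset of dimension one. -/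
theorem exists_dim_one {α : Type*} [TopologicalSpace α] [NoetherianSpace α] [QuasiSober α] [T0Space α]
    (h : ∃ y : α, ¬ IsClosed ({y} : Set α)) :
    ∃ y : α, topologicalKrullDim (closure ({y} : Set α)) = (1 : ℕ) := by
  let P : Set (Closeds α) := {T | ∃ y : α, ¬ IsClosed ({y} : Set α) ∧ closure ({y} : Set α) = T}
  obtain ⟨T, ⟨y, hy, hT⟩, hmin⟩ := (wellFounded_lt (α := Closeds α)).has_min P
    (h.elim fun y hy => ⟨⟨closure {y}, isClosed_closure⟩, y, hy, rfl⟩)
  have hlow : ∀ z ∈ closure ({y} : Set α), z ≠ y → IsClosed ({z} : Set α) := by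
    intro z hz hzy
    by_contra hzc
    refine hmin ⟨closure {z}, isClosed_closure⟩ ⟨z, hzc, rfl⟩ ?_
    rw [← SetLike.coe_ssubset_coe, ← hT, Closeds.coe_mk]
    refine ⟨closure_minimal (Set.singleton_subset_iff.2 hz) isClosed_closure, fun hsub => hzy ?_⟩
    exact ((specializes_iff_mem_closure.2 hz).antisymm (specializes_iff_mem_closure.2 (hsub (subset_closure rfl)))).eq.symm
  refine ⟨y, le_antisymm ?_ ?_⟩
  · refine Order.krullDim_le_one_iff.2 fun S => ?_
    have hir : IsIrreducible (Subtype.val '' (S : Set (closure ({y} : Set α)))) :=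
      S.isIrreducible.image _ continuous_subtype_val.continuousOn
    have hcl : IsClosed (Subtype.val '' (S : Set (closure ({y} : Set α)))) :=
      isClosed_closure.isClosedEmbedding_subtypeVal.isClosedMap _ S.isClosed
    obtain ⟨z, hz⟩ := QuasiSober.sober hir hcl
    by_cases hzy : z = y
    · subst hzy
      refine Or.inr fun S' hS' w hw => ?_
      have h1 : (w : α) ∈ Subtype.val '' (S : Set (closure ({z} : Set α))) := by rw [← hz.def]; exact w.2
      obtain ⟨w', hw', he⟩ := h1
      exact Subtype.ext he ▸ hw'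
    · have hzS : z ∈ Subtype.val '' (S : Set (closure ({y} : Set α))) := hz.mem
      have hzc : IsClosed ({z} : Set α) := by
        obtain ⟨w, -, rfl⟩ := hzS
        exact hlow _ w.2 hzy
      refine Or.inl fun S' hS' w hw => ?_
      have h1 : (w : α) = z := by
        have : (w : α) ∈ closure ({z} : Set α) := hz.def.symm ▸ Set.mem_image_of_mem _ hw
        rwa [hzc.closure_eq] at this
      obtain ⟨w', hw'⟩ := S'.isIrreducible.nonempty
      have h2 : (w' : α) = z := by
        have : (w' : α) ∈ closure ({z} : Set α) := hz.def.symm ▸ Set.mem_image_of_mem _ (hS' hw')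
        rwa [hzc.closure_eq] at this
      rwa [Subtype.ext (h1.trans h2.symm)]
  · obtain ⟨z, hz, hzy⟩ : ∃ z ∈ closure ({y} : Set α), z ≠ y := by
      by_contra! hall
      exact hy ((Set.Subset.antisymm hall subset_closure : closure {y} = {y}) ▸ isClosed_closure)
    have h1 := topologicalKrullDim_add_one_le (isClosed_closure (s := ({z} : Set α))) isIrreducible_singleton.closure
      (closure_minimal (Set.singleton_subset_iff.2 hz) isClosed_closure) fun e => hzy (by
        have : y ∈ closure ({z} : Set α) := e ▸ subset_closure rfl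
        exact ((specializes_iff_mem_closure.2 hz).antisymm (specializes_iff_mem_closure.2 this)).eq.symm)
    refine le_trans (le_of_eq ?_) ((add_le_add_left
      (zero_le_topologicalKrullDim (Set.Nonempty.closure (Set.singleton_nonempty z))) 1).trans h1)
    simp

variable {k : Type u} [Field k] {X : Scheme.{u}} [X.Over (Spec (CommRingCat.of k))]
  [IsProper (X ↘ Spec (CommRingCat.of k))] {L : X.Modules}

/-- A strictly nef module has no power trivial on a curve. -/
theorem subsingleton_of_trivial (hL : PicF.IsInvertible L)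
    (hpos : ∀ y : X, topologicalKrullDim (closure ({y} : Set X)) = (1 : ℕ) →
      0 < altT k (fun _ : Fin 1 => L) (ClSub.quotMod (pt y)))
    {N : ℕ} (hN : 0 < N) {C : Scheme.{u}} (i : C ⟶ X) [IsClosedImmersion i] [IsIntegral C]
    (θ : (Scheme.Modules.pullback i).obj (CohB1.tensorPow L N) ≅ Coh.structureModule C) : Subsingleton C := by
  haveI := Groth.L21.RR.isNoetherian_of_proper (X := X) k
  letI : C.Over (Spec (CommRingCat.of k)) := ⟨i ≫ (X ↘ Spec (CommRingCat.of k))⟩
  haveI : IsProper (C ↘ Spec (CommRingCat.of k)) :=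
    inferInstanceAs (IsProper (i ≫ (X ↘ Spec (CommRingCat.of k))))
  haveI := Groth.L21.RR.isNoetherian_of_proper (X := C) k
  by_cases hall : ∀ c : C, IsClosed ({c} : Set C)
  · refine ⟨fun a b => ?_⟩
    have key : ∀ c : C, c = genericPoint C := fun c => by
      have h1 := (genericPoint_specializes c).mem_closed (hall (genericPoint C)) rfl
      exact h1
    rw [key a, key b]
  exfalso
  obtain ⟨z, hz⟩ := exists_dim_one (not_forall.1 hall)
  haveI := isIntegral_pt z
  let ι := (pt z).subschemeι
  letI : (pt z).subscheme.Over (Spec (CommRingCat.of k)) := ⟨ι ≫ (C ↘ Spec (CommRingCat.of k))⟩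
  haveI : IsProper ((pt z).subscheme ↘ Spec (CommRingCat.of k)) :=
    inferInstanceAs (IsProper (ι ≫ (C ↘ Spec (CommRingCat.of k))))
  have hd : topologicalKrullDim (pt z).subscheme = (1 : ℕ) := by rw [← dim_closure_image ι, genericPoint_pt, hz]
  have hN' : ∀ _ : Fin 1, PicF.IsInvertible (CohB1.tensorPow L N) := fun _ =>
    Groth.L18.Ample.isInvertible_tensorPow hL N
  let g : (pt z).subscheme ⟶ X := ι ≫ i
  have hg : g ≫ (X ↘ Spec (CommRingCat.of k)) = (pt z).subscheme ↘ Spec (CommRingCat.of k) :=
    Category.assoc _ _ _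
  have hy : topologicalKrullDim (closure ({g (genericPoint (pt z).subscheme)} : Set X)) = (1 : ℕ) := by
    rw [dim_closure_image g, hd]
  obtain ⟨φ⟩ := Groth.L08.Cube.trivial_comp ι i rfl (CohB1.tensorPow L N) ⟨θ⟩
  have h1 := altT_push_eq k g hg hd (L := fun _ : Fin 1 => CohB1.tensorPow L N) hN'
  have key : ∀ {Y : Scheme.{u}} (B : Y.Modules), (fun _ : Fin 1 => B) = Fin.cons B (Fin.elim0 : Fin 0 → Y.Modules) :=
    fun B => funext fun j => by rw [Subsingleton.elim j 0, Fin.cons_zero]
  rw [altT_congr k (L' := fun _ : Fin 1 => Coh.structureModule (pt z).subscheme) (fun _ => ⟨φ⟩),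
    key (Coh.structureModule _), altT_unit, key (CohB1.tensorPow L N), altT_pow k (fun j => j.elim0) hL
      (pt_facts _).1 ((topologicalKrullDim_set_mono (pt_facts _).2.1).trans hy.le), ← key] at h1
  have := mul_pos (Nat.cast_pos.2 hN : (0 : ℚ) < N) (hpos _ hy)
  linarith

/-- Semiample strictly nef modules are ample. -/
theorem isAmple_of_generated (hL : PicF.IsInvertible L)
    (hpos : ∀ y : X, topologicalKrullDim (closure ({y} : Set X)) = (1 : ℕ) →
      0 < altT k (fun _ : Fin 1 => L) (ClSub.quotMod (pt y)))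
    {N : ℕ} (hN : 0 < N)
    (hgen : ∀ x : X, ∃ σ : Coh.structureModule X ⟶ CohB1.tensorPow L N, x ∈ CohB1.genLocus _ σ) :
    CohB1.IsAmple L := by
  haveI := Groth.L21.RR.isNoetherian_of_proper (X := X) k
  obtain ⟨n, s, hs⟩ := Groth.L22.Nakai.exists_generatedBy hgen
  exact (Groth.L18.Ample.isAmple_pow_iff hL hN).2 (Groth.L22.Nakai.isAmple_of_no_trivial_curve
    (X ↘ Spec (CommRingCat.of k)) (Groth.L18.Ample.isInvertible_tensorPow hL N) s hs
    fun C i _ _ ⟨θ⟩ => subsingleton_of_trivial hL hpos hN i θ)

theorem isAmple_of_sections (hL : PicF.IsInvertible L)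
    (hpos : ∀ y : X, topologicalKrullDim (closure ({y} : Set X)) = (1 : ℕ) →
      0 < altT k (fun _ : Fin 1 => L) (ClSub.quotMod (pt y)))
    (heff : ∀ Z : X.IdealSheafData, IsIntegral Z.subscheme →
      ∃ (m : ℕ) (s : Coh.structureModule Z.subscheme ⟶
          CohB1.tensorPow ((Scheme.Modules.pullback Z.subschemeι).obj L) (m + 1)), s ≠ 0) :
    CohB1.IsAmple L := by
  haveI := Groth.L21.RR.isNoetherian_of_proper (X := X) k
  suffices key : ∀ (T : Closeds X) (y : X), closure ({y} : Set X) = T →
      CohB1.IsAmple ((Scheme.Modules.pullback (pt y).subschemeι).obj L) by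
    refine isAmple_of_integrals (X ↘ Spec (CommRingCat.of k)) hL fun C i _ _ => ?_
    have hle : i.ker ≤ (pt (i (genericPoint C))).subschemeι.ker := by
      rw [Scheme.IdealSheafData.ker_subschemeι, ← Scheme.IdealSheafData.le_support_iff_le_vanishingIdeal]
      show closure {i (genericPoint C)} ⊆ _
      rw [Scheme.Hom.support_ker, ← range_eq_closure i]
      exact subset_closure
    let j : (pt (i (genericPoint C))).subscheme ⟶ C := IsClosedImmersion.lift i (pt _).subschemeι hle
    have hj : j ≫ i = (pt (i (genericPoint C))).subschemeι := IsClosedImmersion.lift_fac _ _ _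
    haveI : IsClosedImmersion (j ≫ i) := hj ▸ inferInstance
    haveI : IsClosedImmersion j := IsClosedImmersion.of_comp j i
    haveI : Surjective j := ⟨fun t => by
      obtain ⟨z, hz⟩ : i t ∈ Set.range (pt (i (genericPoint C))).subschemeι := by
        rw [range_pt, ← range_eq_closure i]; exact ⟨t, rfl⟩
      exact ⟨z, i.isClosedEmbedding.injective (by rw [← Scheme.Hom.comp_apply, hj]; exact hz)⟩⟩
    haveI : IsIso j := isIso_of_isClosedImmersion_of_surjective j
    exact Groth.L18.Ample.isAmple_of_iso
      ((Scheme.Modules.pullbackComp (inv j) _).app L ≪≫ (Scheme.Modules.pullbackCongr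
        (show inv j ≫ (pt (i (genericPoint C))).subschemeι = i by
          rw [← hj, IsIso.inv_hom_id_assoc])).app L)
      (Groth.L18.Ample.isAmple_pullback_of_isAffineHom (inv j) (key ⟨_, isClosed_closure⟩ _ rfl))
  intro T
  induction T using WellFoundedLT.induction with
  | ind T ih =>
  intro y hy
  haveI := isIntegral_pt y
  let C := (pt y).subscheme
  let ι := (pt y).subschemeι
  letI : C.Over (Spec (CommRingCat.of k)) := ⟨ι ≫ (X ↘ Spec (CommRingCat.of k))⟩
  haveI : IsProper (C ↘ Spec (CommRingCat.of k)) :=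
    inferInstanceAs (IsProper (ι ≫ (X ↘ Spec (CommRingCat.of k))))
  haveI := Groth.L21.RR.isNoetherian_of_proper (X := C) k
  have hC := Groth.L18.Ample.isInvertible_pullback ι hL
  have hsub : ∀ (D : Scheme.{u}) (i : D ⟶ C) [IsClosedImmersion i] [IsIntegral D], Set.range i ≠ Set.univ →
      CohB1.IsAmple ((Scheme.Modules.pullback i).obj ((Scheme.Modules.pullback ι).obj L)) := by
    intro D i _ _ hne
    let g : D ⟶ X := i ≫ ι
    let y' : X := g (genericPoint D)
    have hlt : (⟨closure {y'}, isClosed_closure⟩ : Closeds X) < T := by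
      rw [← SetLike.coe_ssubset_coe, Closeds.coe_mk, ← hy, ← range_eq_closure g, ← range_pt y]
      refine ⟨Set.range_comp_subset_range i ι, fun hsub => hne (Set.eq_univ_of_forall fun c => ?_)⟩
      obtain ⟨z, hz⟩ := hsub ⟨c, rfl⟩
      exact ⟨z, ι.isClosedEmbedding.injective hz⟩
    have hle : g.ker ≤ (pt y').subschemeι.ker := by
      rw [Scheme.IdealSheafData.ker_subschemeι, ← Scheme.IdealSheafData.le_support_iff_le_vanishingIdeal]
      show closure {y'} ⊆ _
      rw [Scheme.Hom.support_ker, range_eq_closure g]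
      exact subset_closure
    let j : (pt y').subscheme ⟶ D := IsClosedImmersion.lift g (pt y').subschemeι hle
    have hj : j ≫ g = (pt y').subschemeι := IsClosedImmersion.lift_fac _ _ _
    haveI : IsClosedImmersion (j ≫ g) := hj ▸ inferInstance
    haveI : IsClosedImmersion j := IsClosedImmersion.of_comp j g
    haveI : Surjective j := ⟨fun t => by
      obtain ⟨z, hz⟩ : g t ∈ Set.range (pt y').subschemeι := by rw [range_pt, ← range_eq_closure g]; exact ⟨t, rfl⟩
      exact ⟨z, g.isClosedEmbedding.injective (by rw [← Scheme.Hom.comp_apply, hj]; exact hz)⟩⟩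
    haveI : IsIso j := isIso_of_isClosedImmersion_of_surjective j
    exact Groth.L18.Ample.isAmple_of_iso
      ((Scheme.Modules.pullbackComp (inv j) _).app L ≪≫
        (Scheme.Modules.pullbackCongr (show inv j ≫ (pt y').subschemeι = g by rw [← hj, IsIso.inv_hom_id_assoc])).app L ≪≫
        ((Scheme.Modules.pullbackComp i ι).app L).symm)
      (Groth.L18.Ample.isAmple_pullback_of_isAffineHom (inv j) (ih _ hlt y' rfl))
  obtain ⟨m, s, hs⟩ := heff (pt y) inferInstance
  obtain ⟨N, hN, hgen⟩ := Groth.L22.Nakai.exists_generated_of_section k hC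
    (fun F hF hη p hp => Groth.L22.Nakai.van_of_subschemes k hC hF
      (fun D i _ _ hD => hsub D i fun h => hη (hD (h ▸ Set.mem_univ _))) hp) m.succ_pos s hs
  refine isAmple_of_generated (k := k) hC (fun z hz => ?_) hN hgen
  haveI := isIntegral_pt z
  let i := (pt z).subschemeι
  letI : (pt z).subscheme.Over (Spec (CommRingCat.of k)) := ⟨i ≫ (C ↘ Spec (CommRingCat.of k))⟩
  have hd : topologicalKrullDim (pt z).subscheme = (1 : ℕ) := by rw [← dim_closure_image i, genericPoint_pt, hz]
  have hg' : (i ≫ ι) ≫ (X ↘ Spec (CommRingCat.of k)) = (pt z).subscheme ↘ Spec (CommRingCat.of k) :=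
    Category.assoc _ _ _
  have h2 := altT_push_eq k i rfl hd (L := fun _ : Fin 1 => (Scheme.Modules.pullback ι).obj L) fun _ => hC
  rw [genericPoint_pt] at h2
  rw [← h2, altT_congr k (L := fun _ : Fin 1 => (Scheme.Modules.pullback i).obj ((Scheme.Modules.pullback ι).obj L))
      (L' := fun _ : Fin 1 => (Scheme.Modules.pullback (i ≫ ι)).obj L)
      (fun _ => ⟨(Scheme.Modules.pullbackComp i ι).app L⟩),
    altT_push_eq k (i ≫ ι) hg' hd (L := fun _ : Fin 1 => L) fun _ => hL]
  exact hpos _ ((dim_closure_image _).trans hd)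

theorem pos_iff :
    (∀ C : X.IdealSheafData, IsIntegral C.subscheme → topologicalKrullDim (C.support : Set X) = 1 →
      0 < Curv2.euler k X (CohB1.tensorMod (ClSub.quotMod C) L) - Curv2.euler k X (ClSub.quotMod C)) ↔
    ∀ y : X, topologicalKrullDim (closure ({y} : Set X)) = (1 : ℕ) →
      0 < altT k (fun _ : Fin 1 => L) (ClSub.quotMod (pt y)) := by
  refine ⟨fun h y hy => ?_, fun h C hC hd => ?_⟩
  · haveI := isIntegral_pt y
    rw [altT_one]
    exact_mod_cast h (pt y) inferInstance (by rw [Groth.L18.support_vanishingIdeal]; exact hy)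
  · have h1 := h _ ((dim_support C).symm.trans hd)
    rw [← eq_pt C, altT_one] at h1
    exact_mod_cast h1

end Groth.L22.Nef
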