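import Groth.Agent.L22.Nef.Bridge
import Groth.Agent.L22.Nef.StrictlyNef
import Groth.Agent.L22.Inter.PullNum
import Groth.Agent.L22.Cyc.FiniteDeg

/-!
Nef modules on proper schemes.
-/

set_option autoImplicit false
set_option backward.isDefEq.respectTransparency false
set_option linter.style.haveILetI false
set_option linter.unusedSectionVars false
universe u

open CategoryTheory CategoryTheory.Limits AlgebraicGeometry TopologicalSpace

noncomputable section

namespace Groth.L22.Nef

open Groth.L22.Inter Groth.L03.Euler Groth.L16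

variable (k : Type u) [Field k] {X : Scheme.{u}} [X.Over (Spec (CommRingCat.of k))]
  [IsProper (X ↘ Spec (CommRingCat.of k))]

/-- A proper integral scheme has a projective integral modification of degree one. -/
theorem exists_projective_modification [IsIntegral X] {d : ℕ} (hd : topologicalKrullDim X = d) :
    ∃ (W : Scheme.{u}) (_ : IsIntegral W) (_ : W.Over (Spec (CommRingCat.of k)))
      (_ : IsProper (W ↘ Spec (CommRingCat.of k))) (π : W ⟶ X) (A : W.Modules),
      IsProper π ∧ π ≫ (X ↘ Spec (CommRingCat.of k)) = W ↘ Spec (CommRingCat.of k) ∧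
      π (genericPoint W) = genericPoint X ∧ topologicalKrullDim W = d ∧
      π.residueDegree (genericPoint W) = 1 ∧ CohB1.IsAmple A := by
  haveI := Groth.L21.RR.isNoetherian_of_proper (X := X) k
  obtain ⟨N, X', π, j, hj, hjπ, hπ, -, U, hU, hUiso⟩ :=
    Groth.L16.Chow.exists_chow_dense (X ↘ Spec (CommRingCat.of k))
  haveI := hj; haveI := hπ; haveI := hUiso
  letI oX' : X'.Over (Spec (CommRingCat.of k)) := ⟨π ≫ (X ↘ Spec (CommRingCat.of k))⟩
  haveI : IsProper (X' ↘ Spec (CommRingCat.of k)) :=
    inferInstanceAs (IsProper (π ≫ (X ↘ Spec (CommRingCat.of k))))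
  let q : X' ⟶ CohB1.ProjSpace N k := j ≫ (Groth.L16.ProjSpace.isoOver N k).inv
  haveI : IsProper j := by
    haveI : IsProper (j ≫ CohB1.ProjSpaceOver.toBase N (Spec (CommRingCat.of k))) := by rw [hjπ]; infer_instance
    haveI : IsSeparated (CohB1.ProjSpaceOver.toBase N (Spec (CommRingCat.of k))) := by
      show IsSeparated (Limits.pullback.snd _ _)
      infer_instance
    exact IsProper.of_comp j (CohB1.ProjSpaceOver.toBase N (Spec (CommRingCat.of k)))
  haveI : IsClosedImmersion j := IsClosedImmersion.of_isPreimmersion j j.isClosedMap.isClosed_range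
  haveI : IsAffineHom q := inferInstanceAs (IsAffineHom (j ≫ _))
  have hηU : genericPoint X ∈ U :=
    ((genericPoint_spec X).mem_open_set_iff U.2).2 (by
      obtain ⟨y, hy⟩ := hU.nonempty
      exact ⟨y, trivial, hy⟩)
  let i : U.toScheme ⟶ X' := inv (π ∣_ U) ≫ (π ⁻¹ᵁ U).ι
  have hi : i ≫ π = U.ι := by
    rw [Category.assoc, ← morphismRestrict_ι, IsIso.inv_hom_id_assoc]
  let x : X' := i ⟨genericPoint X, hηU⟩
  have hx : π x = genericPoint X := by
    rw [← Scheme.Hom.comp_apply, hi]; rfl
  have huniq : ∀ x', π x' = genericPoint X → x' = x := by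
    intro x' hx'
    have hmem : x' ∈ π ⁻¹ᵁ U := by show π x' ∈ U; rw [hx']; exact hηU
    have h1 : (π ∣_ U) ⟨x', hmem⟩ = ⟨genericPoint X, hηU⟩ := by
      apply U.ι.isOpenEmbedding.injective
      rw [← Scheme.Hom.comp_apply, morphismRestrict_ι, Scheme.Hom.comp_apply]
      exact hx'
    show x' = i ⟨genericPoint X, hηU⟩
    rw [← h1, ← Scheme.Hom.comp_apply, IsIso.hom_inv_id_assoc]
    rfl
  haveI := isIntegral_pt x
  let g := (pt x).subschemeι
  letI oW : (pt x).subscheme.Over (Spec (CommRingCat.of k)) := ⟨g ≫ (X' ↘ Spec (CommRingCat.of k))⟩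
  haveI hW : IsProper ((pt x).subscheme ↘ Spec (CommRingCat.of k)) :=
    inferInstanceAs (IsProper (g ≫ (X' ↘ Spec (CommRingCat.of k))))
  have hη : (g ≫ π) (genericPoint (pt x).subscheme) = genericPoint X := by
    rw [Scheme.Hom.comp_apply, genericPoint_pt, hx]
  refine ⟨(pt x).subscheme, inferInstance, oW, hW, g ≫ π,
    (Scheme.Modules.pullback g).obj ((Scheme.Modules.pullback q).obj (Groth.L18.PUP.O1 N k)),
    inferInstance, Category.assoc _ _ _, hη, ?_, ?_, ?_⟩
  · obtain ⟨a, b, ha, hb, hab⟩ := Groth.L22.FibreDim.exists_dim_closure_add k π rfl x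
    rw [hx, (genericPoint_spec X).def] at ha
    have hb0 : b = 0 := by
      haveI : Subsingleton (closure ({x} : Set X') ∩ π ⁻¹' {π x} : Set X') := ⟨fun u v => Subtype.ext (by
        rw [huniq u.1 (u.2.2.trans hx), huniq v.1 (v.2.2.trans hx)])⟩
      haveI : DiscreteTopology (closure ({x} : Set X') ∩ π ⁻¹' {π x} : Set X') := Subsingleton.discreteTopology
      haveI : Nonempty (closure ({x} : Set X') ∩ π ⁻¹' {π x} : Set X') := ⟨⟨x, subset_closure rfl, rfl⟩⟩
      have h0 := topologicalKrullDim_zero_of_discreteTopology (closure ({x} : Set X') ∩ π ⁻¹' {π x} : Set X')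
      rw [hb] at h0
      exact Nat.le_zero.1 (by exact_mod_cast h0)
    have hXa : topologicalKrullDim X = a := by
      rw [← ha]; exact (IsHomeomorph.topologicalKrullDim_eq _ (Homeomorph.Set.univ X).isHomeomorph).symm
    rw [← dim_closure_image g, genericPoint_pt, hab, hb0, add_zero, ← hXa, hd]
  · refine Groth.L22.Cyc.residueDegree_eq_one _ _ ?_
    rw [Scheme.residueFieldMap_comp, CommRingCat.hom_comp, RingHom.coe_comp]
    refine Function.Bijective.comp (Groth.L22.FibreDim.residueFieldMap_bijective g _) ?_
    have h2 : g (genericPoint (pt x).subscheme) = i ⟨genericPoint X, hηU⟩ := genericPoint_pt x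
    suffices ∀ x', x' = i ⟨genericPoint X, hηU⟩ → Function.Bijective (π.residueFieldMap x').hom from this _ h2
    rintro _ rfl
    have h3 : Function.Bijective ((i ≫ π).residueFieldMap ⟨genericPoint X, hηU⟩).hom := by
      have : ∀ f : U.toScheme ⟶ X, f = U.ι → Function.Bijective (f.residueFieldMap ⟨genericPoint X, hηU⟩).hom := by
        rintro _ rfl
        exact Groth.L22.FibreDim.residueFieldMap_bijective U.ι _
      exact this _ hi
    rw [Scheme.residueFieldMap_comp, CommRingCat.hom_comp, RingHom.coe_comp] at h3
    exact (Function.Bijective.of_comp_iff' (Groth.L22.FibreDim.residueFieldMap_bijective i _) _).1 h3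
  · exact Groth.L18.Ample.isAmple_pullback_of_isAffineHom g
      (Groth.L18.Ample.isAmple_pullback_of_isAffineHom q (Groth.L22.VeryAmple.isAmple_O1 N k))

variable {k}

/-- Degree zero for modules pulled back from a point. -/
theorem altT_trivial {Y : Scheme.{u}} [Y.Over (Spec (CommRingCat.of k))]
    [IsProper (Y ↘ Spec (CommRingCat.of k))] {L : Y.Modules}
    (θ : L ≅ Coh.structureModule Y) (F : Y.Modules) : altT k (fun _ : Fin 1 => L) F = 0 := by
  rw [altT_congr k (L' := fun _ : Fin 1 => Coh.structureModule Y) (fun _ => ⟨θ⟩),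
    show (fun _ : Fin 1 => Coh.structureModule Y) = Fin.cons (Coh.structureModule Y) Fin.elim0 from
      funext fun j => by rw [Subsingleton.elim j 0, Fin.cons_zero], altT_unit]

/-- Pullbacks of nef modules are nef. -/
theorem IsNef.pullback' {L : X.Modules} {C : Scheme.{u}} [C.Over (Spec (CommRingCat.of k))]
    [IsProper (C ↘ Spec (CommRingCat.of k))] (f : C ⟶ X)
    (hf : f ≫ (X ↘ Spec (CommRingCat.of k)) = C ↘ Spec (CommRingCat.of k)) (h : IsNef k L) :
    IsNef k ((Scheme.Modules.pullback f).obj L) := by
  haveI := Groth.L21.RR.isNoetherian_of_proper (X := X) k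
  refine ⟨Groth.L18.Ample.isInvertible_pullback f h.1, fun z hz => ?_⟩
  haveI := Groth.L21.RR.isNoetherian_of_proper (X := C) k
  haveI := isIntegral_pt z
  let i := (pt z).subschemeι
  letI : (pt z).subscheme.Over (Spec (CommRingCat.of k)) := ⟨i ≫ (C ↘ Spec (CommRingCat.of k))⟩
  haveI : IsProper ((pt z).subscheme ↘ Spec (CommRingCat.of k)) :=
    inferInstanceAs (IsProper (i ≫ (C ↘ Spec (CommRingCat.of k))))
  haveI := Groth.L21.RR.isNoetherian_of_proper (X := (pt z).subscheme) k
  have hd : topologicalKrullDim (pt z).subscheme = (1 : ℕ) := by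
    rw [← dim_closure_image i, genericPoint_pt, hz]
  let g : (pt z).subscheme ⟶ X := i ≫ f
  have hg : g ≫ (X ↘ Spec (CommRingCat.of k)) = (pt z).subscheme ↘ Spec (CommRingCat.of k) := by
    rw [Category.assoc, hf]; rfl
  haveI : IsProper (g ≫ (X ↘ Spec (CommRingCat.of k))) := by rw [hg]; infer_instance
  haveI : IsProper g := IsProper.of_comp g (X ↘ Spec (CommRingCat.of k))
  have h2 := altT_push_eq k i rfl hd (L := fun _ : Fin 1 => (Scheme.Modules.pullback f).obj L)
    fun _ => Groth.L18.Ample.isInvertible_pullback f h.1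
  rw [genericPoint_pt] at h2
  rw [← h2, altT_congr k
    (L := fun _ : Fin 1 => (Scheme.Modules.pullback i).obj ((Scheme.Modules.pullback f).obj L))
    (L' := fun _ : Fin 1 => (Scheme.Modules.pullback g).obj L)
    (fun _ => ⟨(Scheme.Modules.pullbackComp i f).app L⟩)]
  let y : X := g (genericPoint (pt z).subscheme)
  have hrange : Set.range g = closure {y} := by
    refine Set.Subset.antisymm ?_ (closure_minimal (Set.singleton_subset_iff.2 ⟨_, rfl⟩)
      g.isClosedMap.isClosed_range)
    rintro _ ⟨w, rfl⟩
    exact specializes_iff_mem_closure.1 ((genericPoint_specializes w).map g.continuous)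
  haveI := isIntegral_pt y
  letI : (pt y).subscheme.Over (Spec (CommRingCat.of k)) :=
    ⟨(pt y).subschemeι ≫ (X ↘ Spec (CommRingCat.of k))⟩
  haveI : IsProper ((pt y).subscheme ↘ Spec (CommRingCat.of k)) :=
    inferInstanceAs (IsProper ((pt y).subschemeι ≫ (X ↘ Spec (CommRingCat.of k))))
  haveI := Groth.L21.RR.isNoetherian_of_proper (X := (pt y).subscheme) k
  have hle : (pt y).subschemeι.ker ≤ g.ker := by
    rw [Scheme.IdealSheafData.ker_subschemeι]
    exact Groth.L18.vanishingIdeal_le_ker g _ hrange.le
  let g' : (pt z).subscheme ⟶ (pt y).subscheme := IsClosedImmersion.lift (pt y).subschemeι g hle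
  have hg' : g' ≫ (pt y).subschemeι = g := IsClosedImmersion.lift_fac _ _ _
  have hgk : g' ≫ ((pt y).subscheme ↘ Spec (CommRingCat.of k)) = (pt z).subscheme ↘ Spec (CommRingCat.of k) := by
    show g' ≫ (pt y).subschemeι ≫ _ = _
    rw [← Category.assoc, hg', hg]
  rw [altT_congr k (L := fun _ : Fin 1 => (Scheme.Modules.pullback g).obj L)
    (L' := fun _ : Fin 1 => (Scheme.Modules.pullback g').obj ((Scheme.Modules.pullback (pt y).subschemeι).obj L))
    (fun _ => ⟨(Scheme.Modules.pullbackCongr hg').symm.app L ≪≫
      ((Scheme.Modules.pullbackComp g' (pt y).subschemeι).app L).symm⟩)]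
  by_cases hy : IsClosed ({y} : Set X)
  · haveI : Subsingleton (pt y).subscheme := ⟨fun a b => (pt y).subschemeι.isClosedEmbedding.injective (by
      have ha := (range_pt y).le ⟨a, rfl⟩
      have hb := (range_pt y).le ⟨b, rfl⟩
      rw [hy.closure_eq, Set.mem_singleton_iff] at ha hb
      rw [ha, hb])⟩
    obtain ⟨θ⟩ : Nonempty ((Scheme.Modules.pullback (pt y).subschemeι).obj L ≅
        Coh.structureModule (pt y).subscheme) := (PicGrp.cl_eq_cl_iff _ _).1
      (Groth.Agent.AbDualLib.eq_oneCl_of_subsingleton ⟨_, rfl, Groth.L18.Ample.isInvertible_pullback _ h.1⟩)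
    rw [altT_trivial ((Scheme.Modules.pullback g').mapIso θ ≪≫ Groth.L29.LocFree.pullbackUnitIso g')]
  · have hy1 : topologicalKrullDim (closure ({y} : Set X)) = (1 : ℕ) := by
      obtain ⟨w, hw⟩ : ∃ w : (pt y).subscheme, topologicalKrullDim (closure ({w} : Set (pt y).subscheme)) = (1 : ℕ) :=
        exists_dim_one ⟨genericPoint (pt y).subscheme, fun hc => hy (by
          have := (pt y).subschemeι.isClosedEmbedding.isClosedMap _ hc
          rwa [Set.image_singleton, genericPoint_pt] at this)⟩
      by_cases hwη : w = genericPoint (pt y).subscheme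
      · subst hwη
        rw [(genericPoint_spec (pt y).subscheme).def] at hw
        rw [← range_pt y, ← (IsHomeomorph.topologicalKrullDim_eq _
          (pt y).subschemeι.isEmbedding.toHomeomorph.isHomeomorph)]
        rw [← hw]
        exact (IsHomeomorph.topologicalKrullDim_eq _ (Homeomorph.Set.univ _).isHomeomorph).symm
      · exfalso
        obtain ⟨w', hw'⟩ : (pt y).subschemeι w ∈ Set.range g := by rw [hrange, ← range_pt y]; exact ⟨w, rfl⟩
        have hw'η : w' ≠ genericPoint (pt z).subscheme := fun e => hwη ((pt y).subschemeι.isClosedEmbedding.injective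
          ((hw'.symm.trans (congrArg g e)).trans (genericPoint_pt y).symm))
        have hw'c : IsClosed ({w'} : Set (pt z).subscheme) := by
          by_contra hc
          have hne : closure ({w'} : Set (pt z).subscheme) ≠ Set.univ := fun e =>
            hw'η (((show IsGenericPoint w' Set.univ from e)).eq (genericPoint_spec _))
          obtain ⟨v, hv⟩ : ∃ v ∈ closure ({w'} : Set (pt z).subscheme), v ≠ w' := by
            by_contra! hall
            exact hc ((Set.Subset.antisymm hall subset_closure : closure {w'} = {w'}) ▸ isClosed_closure)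
          have h1 := topologicalKrullDim_add_one_le (isClosed_closure (s := ({v} : Set (pt z).subscheme)))
            isIrreducible_singleton.closure
            (closure_minimal (Set.singleton_subset_iff.2 hv.1) isClosed_closure) fun e => hv.2 (by
              have : w' ∈ closure ({v} : Set (pt z).subscheme) := e ▸ subset_closure rfl
              exact ((specializes_iff_mem_closure.2 hv.1).antisymm (specializes_iff_mem_closure.2 this)).eq.symm)
          have h2 := topologicalKrullDim_add_one_le (isClosed_closure (s := ({w'} : Set (pt z).subscheme)))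
            (IrreducibleSpace.isIrreducible_univ _) (Set.subset_univ _) hne
          rw [(IsHomeomorph.topologicalKrullDim_eq _ (Homeomorph.Set.univ _).isHomeomorph), hd] at h2
          have h3 : (0 : WithBot ℕ∞) + 1 + 1 ≤ (1 : ℕ) := (add_le_add_left ((add_le_add_left
            (zero_le_topologicalKrullDim (Set.Nonempty.closure (Set.singleton_nonempty v))) 1).trans h1) 1).trans h2
          norm_num at h3
        have hwc : IsClosed ({w} : Set (pt y).subscheme) := by
          have h1 := g.isClosedMap _ hw'c
          rw [Set.image_singleton, hw'] at h1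
          have h2 := h1.preimage (pt y).subschemeι.continuous
          rwa [← Set.image_singleton, Set.preimage_image_eq _ (pt y).subschemeι.isClosedEmbedding.injective] at h2
        haveI : Subsingleton (closure ({w} : Set (pt y).subscheme)) := ⟨fun a b => Subtype.ext (by
          have ha := a.2; have hb := b.2
          simp only [hwc.closure_eq, Set.mem_singleton_iff] at ha hb
          rw [ha, hb])⟩
        haveI : DiscreteTopology (closure ({w} : Set (pt y).subscheme)) := Subsingleton.discreteTopology
        haveI : Nonempty (closure ({w} : Set (pt y).subscheme)) := ⟨⟨w, subset_closure rfl⟩⟩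
        have h0 := topologicalKrullDim_zero_of_discreteTopology (closure ({w} : Set (pt y).subscheme))
        rw [hw] at h0
        norm_num at h0
    haveI : IsProper (g' ≫ ((pt y).subscheme ↘ Spec (CommRingCat.of k))) := by rw [hgk]; infer_instance
    haveI : IsProper g' := IsProper.of_comp g' ((pt y).subscheme ↘ Spec (CommRingCat.of k))
    have hη : g' (genericPoint (pt z).subscheme) = genericPoint (pt y).subscheme := by
      apply (pt y).subschemeι.isClosedEmbedding.injective
      rw [← Scheme.Hom.comp_apply, hg', genericPoint_pt]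
    rw [altT_pullback k g' hgk hη hd (L := fun _ : Fin 1 => (Scheme.Modules.pullback (pt y).subschemeι).obj L)
      fun _ => Groth.L18.Ample.isInvertible_pullback _ h.1]
    refine mul_nonneg (Nat.cast_nonneg _) ?_
    have hdy : topologicalKrullDim (pt y).subscheme = (1 : ℕ) := by
      rw [← dim_closure_image (pt y).subschemeι, genericPoint_pt, hy1]
    rw [altT_push_eq k (pt y).subschemeι rfl hdy (L := fun _ : Fin 1 => L) fun _ => h.1, genericPoint_pt]
    exact h.2 y hy1

/-- Nef modules have nonnegative intersection numbers. -/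
theorem altT_nonneg_proper {r : ℕ} {L : Fin r → X.Modules} (hL : ∀ i, IsNef k (L i))
    {F : X.Modules} (hF : Coh.IsCoh F) (hd : topologicalKrullDim (CohB1.support F) ≤ r) : 0 ≤ altT k L F := by
  refine altT_nonneg_of_points k (fun i => (hL i).1) hF hd fun y hy => ?_
  haveI := isIntegral_pt y
  let g := (pt y).subschemeι
  letI : (pt y).subscheme.Over (Spec (CommRingCat.of k)) := ⟨g ≫ (X ↘ Spec (CommRingCat.of k))⟩
  haveI : IsProper ((pt y).subscheme ↘ Spec (CommRingCat.of k)) :=
    inferInstanceAs (IsProper (g ≫ (X ↘ Spec (CommRingCat.of k))))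
  have hdim : topologicalKrullDim (pt y).subscheme = r := by rw [← dim_closure_image g, genericPoint_pt, hy]
  have h1 := altT_push_eq k g rfl hdim fun i => (hL i).1
  rw [genericPoint_pt] at h1
  rw [← h1]
  obtain ⟨W, hWi, oW, hW, π, A, hπ, hπk, hπη, hWd, hdeg, hA⟩ := exists_projective_modification k hdim
  haveI := hWi; haveI := hπ; haveI := hW
  have hN : ∀ i, IsNef k ((Scheme.Modules.pullback g).obj (L i)) := fun i => (hL i).pullback g rfl
  have h3 := altT_pullback k π hπk hπη hWd fun i => (hN i).1
  rw [hdeg, Nat.cast_one, one_mul] at h3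
  rw [← h3]
  haveI := Groth.L21.RR.isNoetherian_of_proper (X := W) k
  exact altT_nonneg hA (fun i => (hN i).pullback' π hπk) (CohClosedPush.isCoh_structure (X := W))
    (by rw [Groth.L22.Nakai.dim_support_structure, hWd])

end Groth.L22.Nef
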