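import Groth.Agent.L22.Nef.Proper
import Groth.Agent.L18.AmpleGG

/-!
Intersection numbers only depend on numerical classes.
-/

set_option autoImplicit false
set_option backward.isDefEq.respectTransparency false
set_option linter.style.haveILetI false
set_option linter.unusedSectionVars false
universe u

open CategoryTheory CategoryTheory.Limits AlgebraicGeometry TopologicalSpace

noncomputable section

namespace Groth.L22.Nef

open Groth.L22.Inter Groth.L03.Euler Groth.L16

variable {k : Type u} [Field k] {X : Scheme.{u}} [X.Over (Spec (CommRingCat.of k))]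
  [IsProper (X ↘ Spec (CommRingCat.of k))] {r : ℕ}

theorem altT_update_congr {A B : X.Modules} (e : A ≅ B) (L : Fin r → X.Modules) (i : Fin r) (F : X.Modules) :
    altT k (Function.update L i A) F = altT k (Function.update L i B) F :=
  altT_congr k (fun j => by
    by_cases hj : j = i
    · subst hj; simp only [Function.update_self]; exact ⟨e⟩
    · simp only [Function.update_of_ne hj]; exact ⟨Iso.refl _⟩) F

theorem altT_update_unit (L : Fin r → X.Modules) (i : Fin r) (F : X.Modules) :
    altT k (Function.update L i (Coh.structureModule X)) F = 0 := by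
  obtain ⟨r, rfl⟩ := Nat.exists_eq_succ_of_ne_zero (Nat.pos_iff_ne_zero.1 i.pos)
  rw [altT_move, altT_unit]

theorem altT_update_tensor {L : Fin r → X.Modules} (hL : ∀ i, PicF.IsInvertible (L i)) (i : Fin r)
    {A B : X.Modules} (hA : PicF.IsInvertible A) (hB : PicF.IsInvertible B) {F : X.Modules} (hF : Coh.IsCoh F)
    (h : topologicalKrullDim (CohB1.support F) ≤ r) :
    altT k (Function.update L i (CohB1.tensorMod A B)) F =
      altT k (Function.update L i A) F + altT k (Function.update L i B) F := by
  obtain ⟨r, rfl⟩ := Nat.exists_eq_succ_of_ne_zero (Nat.pos_iff_ne_zero.1 i.pos)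
  rw [altT_move, altT_move, altT_move, altT_add k (fun _ => hL _) hA hB hF h]

include k in
/-- Every invertible module is a difference of amples. -/
theorem exists_ample_twist {A : X.Modules} (hA : CohB1.IsAmple A) {L : X.Modules} (hL : PicF.IsInvertible L) :
    ∃ n : ℕ, CohB1.IsAmple (CohB1.tensorMod A (CohB1.tensorMod L (CohB1.tensorPow A n))) := by
  haveI := Groth.L21.RR.isNoetherian_of_proper (X := X) k
  obtain ⟨n, hn⟩ := Groth.L18.Ample.exists_forall_isGloballyGenerated hA L (Groth.L18.Ample.isCoh_of_isInvertible hL)
  have hM : PicF.IsInvertible (CohB1.tensorMod L (CohB1.tensorPow A n)) :=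
    Groth.L18.GenLoc.isInvertible_tensor hL (Groth.L18.Ample.isInvertible_tensorPow hA.1 n)
  refine ⟨n, Groth.L18.Ample.isAmple_tensor_of_gen hA hM fun x => ?_⟩
  obtain ⟨s, hs⟩ := Groth.L18.Ample.exists_genLocus_mem_of_gg hM (hn n le_rfl) x
  exact ⟨0, s ≫ (Groth.L00.Tensor.tensorUnitLeft _).inv,
    (Groth.L16.genLocus_comp_iso s (Groth.L00.Tensor.tensorUnitLeft _).symm).ge hs⟩

/-- On a scheme with an ample module a slot of degree zero kills the intersection number. -/
theorem altT_zero_of_numTriv {A : X.Modules} (hA : CohB1.IsAmple A) {P Q : X.Modules} (hP : IsNef k P)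
    (hQ : IsNef k Q) (e : CohB1.tensorMod P Q ≅ Coh.structureModule X) {L : Fin r → X.Modules}
    (hL : ∀ i, PicF.IsInvertible (L i)) (i : Fin r) {F : X.Modules} (hF : Coh.IsCoh F)
    (hd : topologicalKrullDim (CohB1.support F) ≤ r) : altT k (Function.update L i P) F = 0 := by
  classical
  haveI := Groth.L21.RR.isNoetherian_of_proper (X := X) k
  suffices ∀ (S : Finset (Fin r)) (L : Fin r → X.Modules), (∀ j, PicF.IsInvertible (L j)) →
      (∀ j, j ∉ S → j ≠ i → IsNef k (L j)) → altT k (Function.update L i P) F = 0 from
    this Finset.univ L hL fun j hj => absurd (Finset.mem_univ j) hj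
  intro S
  induction S using Finset.induction_on with
  | empty =>
    intro L hL hnef
    have h : ∀ B, IsNef k B → 0 ≤ altT k (Function.update L i B) F := fun B hB =>
      altT_nonneg hA (fun j => by
        by_cases hj : j = i
        · subst hj; rw [Function.update_self]; exact hB
        · rw [Function.update_of_ne hj]; exact hnef j (by simp) hj) hF hd
    have h0 := altT_update_tensor (k := k) hL i hP.1 hQ.1 hF hd
    rw [altT_update_congr e L i F, altT_update_unit] at h0
    have := h P hP
    have := h Q hQ
    linarith
  | insert j S hj ih =>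
    intro L hL hnef
    by_cases hji : j = i
    · subst hji
      exact ih L hL fun l hl hne => hnef l (by simp [hl, hne]) hne
    obtain ⟨n, hB⟩ := exists_ample_twist (k := k) hA (hL j)
    let L' := Function.update L i P
    have hL' : ∀ l, PicF.IsInvertible (L' l) := fun l => by
      by_cases hl : l = i
      · subst hl; simp only [L', Function.update_self]; exact hP.1
      · simp only [L', Function.update_of_ne hl]; exact hL l
    have hAn := Groth.L18.Ample.isInvertible_tensorPow hA.1 n
    have key : ∀ B, IsNef k B → altT k (Function.update L' j B) F = 0 := fun B hBn => by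
      simp only [L']
      rw [Function.update_comm (Ne.symm hji)]
      refine ih _ (fun l => ?_) fun l hl hne => ?_
      · by_cases hlj : l = j
        · subst hlj; rw [Function.update_self]; exact hBn.1
        · rw [Function.update_of_ne hlj]; exact hL l
      · by_cases hlj : l = j
        · subst hlj; rw [Function.update_self]; exact hBn
        · rw [Function.update_of_ne hlj]; exact hnef l (by simp [hl, hlj]) hne
    have h1 := altT_update_tensor (k := k) hL' j hA.1 (Groth.L18.GenLoc.isInvertible_tensor (hL j) hAn) hF hd
    rw [altT_update_tensor (k := k) hL' j (hL j) hAn hF hd, key _ (IsNef.of_isAmple hB),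
      key _ (IsNef.of_isAmple hA), key _ ((IsNef.of_isAmple hA).pow n), zero_add, add_zero] at h1
    have h2 : L j = L' j := by simp [L', Function.update_of_ne hji]
    rw [h2, Function.update_eq_self] at h1
    exact h1.symm

/-- On a proper scheme a slot of degree zero kills the intersection number. -/
theorem altT_zero_of_numTriv_proper {P Q : X.Modules} (hP : IsNef k P)
    (hQ : IsNef k Q) (e : CohB1.tensorMod P Q ≅ Coh.structureModule X) {L : Fin r → X.Modules}
    (hL : ∀ i, PicF.IsInvertible (L i)) (i : Fin r) {F : X.Modules} (hF : Coh.IsCoh F)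
    (hd : topologicalKrullDim (CohB1.support F) ≤ r) : altT k (Function.update L i P) F = 0 := by
  haveI := Groth.L21.RR.isNoetherian_of_proper (X := X) k
  let L' := Function.update L i P
  have hL' : ∀ l, PicF.IsInvertible (L' l) := fun l => by
    by_cases hl : l = i
    · subst hl; simp only [L', Function.update_self]; exact hP.1
    · simp only [L', Function.update_of_ne hl]; exact hL l
  have hT := CohSupport.isClosed_support F hF.2
  have hS : ∀ x, x ∈ (finite_top hT hd).toFinset ↔ x ∈ CohB1.support F ∧
      topologicalKrullDim (closure ({x} : Set X)) = (r : WithBot ℕ∞) := fun x => Set.Finite.mem_toFinset _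
  show altT k L' F = 0
  rw [altT_eq_sum k hL' hT hd _ hS (fun y => ClSub.quotMod (pt y)) (fun y _ => pt_facts y) hF subset_rfl]
  refine Finset.sum_eq_zero fun y hy => mul_eq_zero.2 (Or.inr ?_)
  have hy := ((hS y).1 hy).2
  haveI := isIntegral_pt y
  let g := (pt y).subschemeι
  letI : (pt y).subscheme.Over (Spec (CommRingCat.of k)) := ⟨g ≫ (X ↘ Spec (CommRingCat.of k))⟩
  haveI : IsProper ((pt y).subscheme ↘ Spec (CommRingCat.of k)) :=
    inferInstanceAs (IsProper (g ≫ (X ↘ Spec (CommRingCat.of k))))
  have hdim : topologicalKrullDim (pt y).subscheme = r := by rw [← dim_closure_image g, genericPoint_pt, hy]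
  have h1 := altT_push_eq k g rfl hdim hL'
  rw [genericPoint_pt] at h1
  rw [← h1]
  obtain ⟨W, hWi, oW, hW, π, A, hπ, hπk, hπη, hWd, hdeg, hA⟩ := exists_projective_modification k hdim
  haveI := hWi; haveI := hπ; haveI := hW
  have h3 := altT_pullback k π hπk hπη hWd (L := fun l => (Scheme.Modules.pullback g).obj (L' l))
    fun l => Groth.L18.Ample.isInvertible_pullback g (hL' l)
  rw [hdeg, Nat.cast_one, one_mul] at h3
  rw [← h3]
  haveI := Groth.L21.RR.isNoetherian_of_proper (X := W) k
  let G := Scheme.Modules.pullback g ⋙ Scheme.Modules.pullback π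
  have hfun : (fun l => (Scheme.Modules.pullback π).obj ((Scheme.Modules.pullback g).obj (L' l))) =
      Function.update (fun l => G.obj (L l)) i (G.obj P) := by
    funext l
    by_cases hl : l = i
    · subst hl; simp only [L', Function.update_self]; rfl
    · simp only [L', Function.update_of_ne hl]; rfl
  rw [hfun]
  exact altT_zero_of_numTriv hA ((hP.pullback g rfl).pullback' π hπk) ((hQ.pullback g rfl).pullback' π hπk)
    ((Groth.L29.DC.PullTensor.pullTensor π _ _) ≪≫ (Scheme.Modules.pullback π).mapIso
      ((Groth.L29.DC.PullTensor.pullTensor g P Q) ≪≫ (Scheme.Modules.pullback g).mapIso e ≪≫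
        Groth.L29.LocFree.pullbackUnitIso g) ≪≫ Groth.L29.LocFree.pullbackUnitIso π)
    (fun l => Groth.L18.Ample.isInvertible_pullback π (Groth.L18.Ample.isInvertible_pullback g (hL l))) i
    (CohClosedPush.isCoh_structure (X := W)) (by rw [Groth.L22.Nakai.dim_support_structure, hWd])

/-- Modules with the same degree on every curve give the same intersection numbers. -/
theorem altT_eq_of_deg_eq {M M' : Fin r → X.Modules} (hM : ∀ i, PicF.IsInvertible (M i))
    (hM' : ∀ i, PicF.IsInvertible (M' i))
    (h : ∀ (i : Fin r) (y : X), topologicalKrullDim (closure ({y} : Set X)) = (1 : ℕ) →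
      altT k (fun _ : Fin 1 => M i) (ClSub.quotMod (pt y)) = altT k (fun _ : Fin 1 => M' i) (ClSub.quotMod (pt y)))
    {F : X.Modules} (hF : Coh.IsCoh F) (hd : topologicalKrullDim (CohB1.support F) ≤ r) :
    altT k M F = altT k M' F := by
  classical
  haveI := Groth.L21.RR.isNoetherian_of_proper (X := X) k
  suffices ∀ S : Finset (Fin r), altT k (S.piecewise M' M) F = altT k M F by
    simpa using (this Finset.univ).symm
  intro S
  induction S using Finset.induction_on with
  | empty => simp
  | insert i S hi ih =>
    rw [← ih, Finset.piecewise_insert]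
    let L := S.piecewise M' M
    have hL : ∀ j, PicF.IsInvertible (L j) := fun j => by
      by_cases hj : j ∈ S
      · simp only [L, Finset.piecewise_eq_of_mem _ _ _ hj]; exact hM' j
      · simp only [L, Finset.piecewise_eq_of_notMem _ _ _ hj]; exact hM j
    have hLi : L i = M i := Finset.piecewise_eq_of_notMem _ _ _ hi
    obtain ⟨N, hN, ⟨eN⟩⟩ := Groth.L08.Cube.exists_inverse (hM i)
    let P := CohB1.tensorMod (M' i) N
    have hPi : PicF.IsInvertible P := Groth.L18.GenLoc.isInvertible_tensor (hM' i) hN
    obtain ⟨Q, hQi, ⟨eQ⟩⟩ := Groth.L08.Cube.exists_inverse hPi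
    let eP : CohB1.tensorMod (M i) P ≅ M' i :=
      Groth.L00.Tensor.tensorIso (Iso.refl (M i)) (Groth.L00.Tensor.tensorComm (M' i) N) ≪≫
        (Groth.L00.Tensor.tensorAssoc (M i) N (M' i)).symm ≪≫
        Groth.L00.Tensor.tensorIso eN (Iso.refl (M' i)) ≪≫ Groth.L00.Tensor.tensorUnitLeft (M' i)
    have hdeg : ∀ y : X, topologicalKrullDim (closure ({y} : Set X)) = (1 : ℕ) →
        altT k (fun _ : Fin 1 => P) (ClSub.quotMod (pt y)) = 0 ∧
          altT k (fun _ : Fin 1 => Q) (ClSub.quotMod (pt y)) = 0 := by
      intro y hy
      have hdy : topologicalKrullDim (CohB1.support (ClSub.quotMod (pt y))) ≤ (1 : ℕ) :=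
        (topologicalKrullDim_set_mono (pt_facts y).2.1).trans hy.le
      have hup : ∀ B : X.Modules, Function.update (fun _ : Fin 1 => M i) 0 B = fun _ => B := fun B => by
        funext j; rw [Subsingleton.elim j 0, Function.update_self]
      have h1 := altT_update_tensor (k := k) (L := fun _ : Fin 1 => M i) (fun _ => hM i) 0 (hM i) hPi
        (pt_facts y).1 hdy
      rw [altT_update_congr eP, hup, hup, hup] at h1
      have h2 := altT_update_tensor (k := k) (L := fun _ : Fin 1 => M i) (fun _ => hM i) 0 hPi hQi
        (pt_facts y).1 hdy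
      rw [altT_update_congr eQ, altT_update_unit, hup, hup] at h2
      have h3 := h i y hy
      constructor <;> linarith
    have h0 := altT_zero_of_numTriv_proper ⟨hPi, fun y hy => (hdeg y hy).1.ge⟩ ⟨hQi, fun y hy => (hdeg y hy).2.ge⟩
      eQ hL i hF hd
    show altT k (Function.update L i (M' i)) F = altT k L F
    rw [← altT_update_congr eP L i F, altT_update_tensor (k := k) hL i (hM i) hPi hF hd, h0, add_zero, ← hLi,
      Function.update_eq_self]

end Groth.L22.Nef
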