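import Groth.Agent.L22.Nef.Basic
import Mathlib.Analysis.Polynomial.Basic
import Mathlib.Topology.Algebra.Polynomial
import Mathlib.Topology.Instances.Rat
import Mathlib.Topology.Order.IntermediateValue

/-!
Kleiman's theorem: nef modules have nonnegative intersection numbers, and ample plus nef is ample.
-/

set_option autoImplicit false
set_option backward.isDefEq.respectTransparency false
set_option linter.style.haveILetI false
set_option linter.unusedSectionVars false
universe u

open CategoryTheory CategoryTheory.Limits AlgebraicGeometry TopologicalSpace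
open scoped Polynomial

noncomputable section

namespace Groth.L22.Nef

open Groth.L22.Inter Groth.L03.Euler Groth.L16

/-- A polynomial negative at zero with positive leading coefficient takes a small positive value at a
positive fraction. -/
theorem exists_frac {q : ℚ[X]} {d : ℕ} (hd : 0 < d) (hq : q.natDegree ≤ d) (h0 : q.coeff 0 < 0)
    (hlead : 0 < q.coeff d) :
    ∃ a b : ℕ, 0 < a ∧ 0 < b ∧ 0 < q.eval ((b : ℚ) / a) ∧ q.eval ((b : ℚ) / a) < q.coeff d * ((b : ℚ) / a) ^ d := by
  let Q : ℝ[X] := q.map (Rat.castHom ℝ)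
  let c : ℝ := ((q.coeff d : ℚ) : ℝ)
  have hc : 0 < c := by simpa [c] using hlead
  let h : ℝ[X] := Q - Polynomial.C (c / 2) * Polynomial.X ^ d
  have hh0 : h.eval 0 < 0 := by
    simp only [h, Q, Polynomial.eval_sub, Polynomial.eval_mul, Polynomial.eval_pow, Polynomial.eval_X,
      zero_pow hd.ne', mul_zero, sub_zero, ← Polynomial.coeff_zero_eq_eval_zero, Polynomial.coeff_map]
    simpa using h0
  have hhd : h.coeff d = c / 2 := by
    simp only [h, Q, Polynomial.coeff_sub, Polynomial.coeff_map, Polynomial.coeff_C_mul, Polynomial.coeff_X_pow_self]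
    simp [c]; ring
  have hhn : h.natDegree = d := by
    refine le_antisymm ((Polynomial.natDegree_sub_le _ _).trans (max_le ?_ ?_))
      (Polynomial.le_natDegree_of_ne_zero (by rw [hhd]; positivity))
    · exact Polynomial.natDegree_map_le.trans hq
    · exact Polynomial.natDegree_C_mul_X_pow_le _ _
  have hlim := Polynomial.tendsto_atTop_of_leadingCoeff_nonneg h
    (Polynomial.natDegree_pos_iff_degree_pos.1 (hhn ▸ hd)) (by rw [Polynomial.leadingCoeff, hhn, hhd]; positivity)
  obtain ⟨T, hT, hT0⟩ := ((hlim.eventually_gt_atTop 0).and (Filter.eventually_gt_atTop (0 : ℝ))).exists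
  obtain ⟨t, ht, hte⟩ := intermediate_value_Ioo hT0.le h.continuous.continuousOn ⟨hh0, hT⟩
  let U : Set ℝ := {s | 0 < s ∧ 0 < Q.eval s ∧ Q.eval s < c * s ^ d}
  have hU : IsOpen U := (isOpen_lt continuous_const continuous_id).inter
    ((isOpen_lt continuous_const Q.continuous).inter (isOpen_lt Q.continuous (by fun_prop)))
  have htU : t ∈ U := by
    have h1 : h.eval t = 0 := hte
    simp only [h, Polynomial.eval_sub, Polynomial.eval_mul, Polynomial.eval_pow, Polynomial.eval_X,
      Polynomial.eval_C, sub_eq_zero] at h1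
    have hp : 0 < c * t ^ d := mul_pos hc (pow_pos ht.1 d)
    exact ⟨ht.1, by rw [h1]; linarith, by rw [h1]; linarith⟩
  obtain ⟨s, hs⟩ := (Rat.denseRange_cast (𝕜 := ℝ)).exists_mem_open hU ⟨t, htU⟩
  obtain ⟨hs0, hs1, hs2⟩ := hs
  have hev : Q.eval (s : ℝ) = ((q.eval s : ℚ) : ℝ) := by
    simp only [Q, Polynomial.eval_map]
    exact (Polynomial.hom_eval₂ q (RingHom.id ℚ) (Rat.castHom ℝ) s).symm
  rw [hev] at hs1 hs2
  have hs0' : 0 < s := by exact_mod_cast hs0
  have hnum : 0 < s.num := Rat.num_pos.2 hs0'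
  refine ⟨s.den, s.num.toNat, s.pos, by omega, ?_⟩
  have hsq : ((s.num.toNat : ℕ) : ℚ) / (s.den : ℚ) = s := by
    rw [show ((s.num.toNat : ℕ) : ℚ) = ((s.num.toNat : ℤ) : ℚ) from (Int.cast_natCast _).symm,
      Int.toNat_of_nonneg hnum.le]
    exact Rat.num_div_den s
  rw [hsq]
  simp only [c] at hs2
  exact ⟨by exact_mod_cast hs1, by exact_mod_cast hs2⟩

variable (k : Type u) [Field k]

/-- Nonnegativity of intersection numbers of nef modules on projective integral schemes of dimension `d`. -/
def NonnegAt (d : ℕ) : Prop :=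
  ∀ (X : Scheme.{u}) [X.Over (Spec (CommRingCat.of k))] [IsProper (X ↘ Spec (CommRingCat.of k))] [IsIntegral X]
    (A : X.Modules), CohB1.IsAmple A → topologicalKrullDim X = d →
      ∀ L : Fin d → X.Modules, (∀ i, IsNef k (L i)) → 0 ≤ altT k L (Coh.structureModule X)

variable {k} {X : Scheme.{u}} [X.Over (Spec (CommRingCat.of k))] [IsProper (X ↘ Spec (CommRingCat.of k))]
  {A : X.Modules}

theorem NonnegAt.coh {d : ℕ} (h : NonnegAt k d) (hA : CohB1.IsAmple A) {L : Fin d → X.Modules}
    (hL : ∀ i, IsNef k (L i)) {F : X.Modules} (hF : Coh.IsCoh F)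
    (hd : topologicalKrullDim (CohB1.support F) ≤ d) : 0 ≤ altT k L F := by
  refine altT_nonneg_of_points k (fun i => (hL i).1) hF hd fun y hy => ?_
  haveI := isIntegral_pt y
  let g := (pt y).subschemeι
  letI : (pt y).subscheme.Over (Spec (CommRingCat.of k)) := ⟨g ≫ (X ↘ Spec (CommRingCat.of k))⟩
  haveI : IsProper ((pt y).subscheme ↘ Spec (CommRingCat.of k)) :=
    inferInstanceAs (IsProper (g ≫ (X ↘ Spec (CommRingCat.of k))))
  have hdim : topologicalKrullDim (pt y).subscheme = d := by rw [← dim_closure_image g, genericPoint_pt, hy]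
  have h1 := altT_push_eq k g rfl hdim fun i => (hL i).1
  rw [genericPoint_pt] at h1
  rw [← h1]
  exact h _ _ (Groth.L18.Ample.isAmple_pullback_of_isAffineHom g hA) hdim _ fun i => (hL i).pullback g rfl

theorem piecewise_nef {r : ℕ} {N A : Fin r → X.Modules} (hN : ∀ i, IsNef k (N i)) (hA : ∀ i, IsNef k (A i))
    (T : Finset (Fin r)) (i : Fin r) : IsNef k (T.piecewise N A i) := by
  by_cases h : i ∈ T
  · rw [Finset.piecewise_eq_of_mem _ _ _ h]; exact hN i
  · rw [Finset.piecewise_eq_of_notMem _ _ _ h]; exact hA i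

/-- Intersection numbers of `N^a ⊗ A^b` are positive where all nef ones are nonnegative. -/
theorem altT_mix_pos {r : ℕ} (hA : CohB1.IsAmple A) {N : X.Modules} (hN : IsNef k N) (a : ℕ) {b : ℕ}
    (hb : 0 < b) {y : X} (hy : topologicalKrullDim (closure ({y} : Set X)) = r)
    (h : ∀ L : Fin r → X.Modules, (∀ i, IsNef k (L i)) → 0 ≤ altT k L (ClSub.quotMod (pt y))) :
    0 < altT k (fun _ : Fin r => CohB1.tensorMod (CohB1.tensorPow N a) (CohB1.tensorPow A b))
      (ClSub.quotMod (pt y)) := by
  haveI := Groth.L21.RR.isNoetherian_of_proper (X := X) k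
  have h1 := pow_mul_le k (N := fun _ : Fin r => N) (A := fun _ => A) (fun _ => hN.1) (fun _ => hA.1)
    (pt_facts y).1 ((topologicalKrullDim_set_mono (pt_facts y).2.1).trans hy.le) a b Finset.univ
    (L := fun _ => A) (fun _ => hA.1) fun T => by
      rw [Finset.piecewise_univ]
      exact h _ (piecewise_nef (fun _ => hN) (fun _ => IsNef.of_isAmple hA) T)
  rw [Finset.piecewise_univ, Finset.piecewise_univ] at h1
  exact (mul_pos (pow_pos (Nat.cast_pos.2 hb) _) (Groth.L22.Nakai.altT_quotMod_pos k hA (pt y) (by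
    rw [Groth.L18.support_vanishingIdeal]; exact hy))).trans_le h1.2

theorem nonnegAt_zero : NonnegAt k 0 := fun X _ _ _ A hA hd L _ =>
  haveI := Groth.L21.RR.isNoetherian_of_proper (X := X) k
  (mixed k L L (fun i => i.elim0) (fun i => i.elim0) (CohClosedPush.isCoh_structure (X := X))
    (by rw [Groth.L22.Nakai.dim_support_structure, hd])).2.1

theorem nonnegAt_succ {e : ℕ} (ih : ∀ e', e' ≤ e → NonnegAt k e') : NonnegAt k (e + 1) := by
  intro X _ _ _ A hA hdX L hL
  haveI := Groth.L21.RR.isNoetherian_of_proper (X := X) k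
  classical
  have hO := CohClosedPush.isCoh_structure (X := X)
  have hdO : topologicalKrullDim (CohB1.support (Coh.structureModule X)) ≤ (e + 1 : ℕ) := by
    rw [Groth.L22.Nakai.dim_support_structure, hdX]
  have hη : topologicalKrullDim (closure ({genericPoint X} : Set X)) = (e + 1 : ℕ) := by
    rw [(genericPoint_spec X).def, ← hdX]
    exact IsHomeomorph.topologicalKrullDim_eq _ (Homeomorph.Set.univ X).isHomeomorph
  -- a slot with an ample module
  have ha : ∀ L : Fin (e + 1) → X.Modules, (∀ i, IsNef k (L i)) → ∀ i, CohB1.IsAmple (L i) →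
      0 ≤ altT k L (Coh.structureModule X) := by
    intro L hL i hi
    let L₁ := L ∘ Equiv.swap 0 i
    have h0 : CohB1.IsAmple (L₁ 0) := by simpa [L₁] using hi
    obtain ⟨N, Q, hN, hQ, hQd, hQe⟩ := exists_drop k hη h0
    have h1 : 0 ≤ altT k (Fin.tail L₁) Q := (ih e le_rfl).coh hA (fun j => hL _) hQ hQd.le
    rw [hQe (Fin.tail L₁) (fun j => (hL _).1), Fin.cons_self_tail, altT_integral k hdX (L := L₁) (fun j => (hL _).1),
      altT_perm] at h1
    exact (mul_nonneg_iff_of_pos_left (Nat.cast_pos.2 hN)).1 h1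
  have hc0 : 0 < altT k (fun _ : Fin (e + 1) => A) (Coh.structureModule X) := by
    rw [← altT_integral k hdX fun _ => hA.1]
    exact Groth.L22.Nakai.altT_quotMod_pos k hA _ (by rw [Groth.L18.support_vanishingIdeal]; exact hη)
  -- positivity gives ampleness
  have key : ∀ N : X.Modules, IsNef k N → ∀ a b : ℕ, 0 < b →
      0 < altT k (fun _ : Fin (e + 1) => CohB1.tensorMod (CohB1.tensorPow N a) (CohB1.tensorPow A b))
        (Coh.structureModule X) →
      CohB1.IsAmple (CohB1.tensorMod (CohB1.tensorPow N a) (CohB1.tensorPow A b)) := by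
    intro N hN a b hb hpos
    refine Groth.L22.Nakai.isAmple_of_pos k (isInvertible_mix hN.1 hA.1 a b) fun y d hd hy => ?_
    have hle : d ≤ e + 1 := by
      have h1 := (topologicalKrullDim_set_mono (Set.subset_univ (closure ({y} : Set X)))).trans
        ((IsHomeomorph.topologicalKrullDim_eq _ (Homeomorph.Set.univ X).isHomeomorph).trans hdX).le
      rw [hy] at h1
      exact_mod_cast h1
    rcases Nat.lt_or_eq_of_le hle with hlt | rfl
    · exact altT_mix_pos hA hN a hb hy fun L' hL' => (ih d (by omega)).coh hA hL' (pt_facts y).1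
        ((topologicalKrullDim_set_mono (pt_facts y).2.1).trans hy.le)
    · obtain rfl : genericPoint X = y := eq_of_specializes_top isClosed_univ
        ((IsHomeomorph.topologicalKrullDim_eq _ (Homeomorph.Set.univ X).isHomeomorph).trans hdX).le hy
        trivial (genericPoint_specializes y)
      rw [altT_integral k hdX fun _ => isInvertible_mix hN.1 hA.1 a b]
      exact hpos
  -- a single nef module
  have hone : ∀ N : X.Modules, IsNef k N → 0 ≤ altT k (fun _ : Fin (e + 1) => N) (Coh.structureModule X) := by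
    intro N hN
    rcases Nat.eq_zero_or_pos e with rfl | he
    · rw [← altT_integral k hdX fun _ => hN.1]
      exact hN.2 _ hη
    by_contra hneg
    obtain ⟨q, hq, hq0, hqt, hqe⟩ := exists_poly k (N := fun _ : Fin (e + 1) => N) (A := fun _ => A)
      (fun _ => hN.1) (fun _ => hA.1) hO hdO Finset.univ (L := fun _ => A) (fun _ => hA.1)
    simp only [Finset.piecewise_univ, Finset.card_univ, Fintype.card_fin] at hq hq0 hqt hqe
    obtain ⟨a, b, ha', hb', hpos, hlt⟩ := exists_frac (Nat.succ_pos e) hq (by rw [hq0]; exact not_le.1 hneg)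
      (by rw [hqt]; exact hc0)
    let M := CohB1.tensorMod (CohB1.tensorPow N a) (CohB1.tensorPow A b)
    have hMpos : 0 < altT k (fun _ : Fin (e + 1) => M) (Coh.structureModule X) := by
      rw [hqe a b ha']; exact mul_pos (pow_pos (Nat.cast_pos.2 ha') _) hpos
    have hM := key N hN a b hb' hMpos
    have hMn : IsNef k M := IsNef.of_isAmple hM
    have hupd := altT_update_pow_tensor k (L := fun _ : Fin (e + 1) => M) (fun _ => hM.1) 0 hN.1 hA.1 hO hdO a b
    rw [Function.update_eq_self_iff.2 (rfl : M = _)] at hupd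
    have hN' : 0 ≤ altT k (Function.update (fun _ : Fin (e + 1) => M) 0 N) (Coh.structureModule X) :=
      ha _ (fun i => by
        by_cases hi : i = 0
        · subst hi; rw [Function.update_self]; exact hN
        · rw [Function.update_of_ne hi]; exact hMn) ⟨1, by omega⟩ (by
        rw [Function.update_of_ne (by simp [Fin.ext_iff])]; exact hM)
    have h2 := pow_mul_le k (N := fun _ : Fin (e + 1) => N) (A := fun _ => A) (fun _ => hN.1) (fun _ => hA.1)
      hO hdO a b (Finset.univ.erase 0) (L := fun _ => A) (fun _ => hA.1) fun T =>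
        ha _ (fun i => piecewise_nef (piecewise_nef (fun _ => hN) (fun _ => IsNef.of_isAmple hA) T)
          (fun _ => IsNef.of_isAmple hA) _ i) 0 (by
            rw [Finset.piecewise_eq_of_notMem _ _ _ (Finset.notMem_erase _ _)]; exact hA)
    have e1 : (Finset.univ.erase (0 : Fin (e + 1))).piecewise (fun _ => M) (fun _ => A) =
        Function.update (fun _ => M) 0 A := by
      rw [← Finset.compl_singleton, Finset.piecewise_compl, Finset.piecewise_singleton]
    have e2 : (Finset.univ.erase (0 : Fin (e + 1))).piecewise (fun _ : Fin (e + 1) => A) (fun _ => A) =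
        fun _ => A := Finset.piecewise_same ..
    rw [e1, e2, Finset.card_erase_of_mem (Finset.mem_univ _), Finset.card_univ, Fintype.card_fin,
      Nat.add_sub_cancel, ← hqt] at h2
    have h3 : (b : ℚ) ^ (e + 1) * q.coeff (e + 1) ≤ (a : ℚ) ^ (e + 1) * q.eval ((b : ℚ) / a) := by
      rw [← hqe a b ha', hupd, pow_succ]
      have := mul_le_mul_of_nonneg_left h2.2 (Nat.cast_nonneg (α := ℚ) b)
      linarith [mul_nonneg (Nat.cast_nonneg (α := ℚ) a) hN']
    have h4 := mul_lt_mul_of_pos_left hlt (pow_pos (Nat.cast_pos.2 ha' : (0 : ℚ) < a) (e + 1))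
    rw [div_pow, mul_left_comm, mul_div_cancel₀ _ (pow_ne_zero _ (Nat.cast_ne_zero.2 ha'.ne'))] at h4
    simp only [Nat.succ_eq_add_one] at h4
    linarith
  -- ampleness of all mixtures
  have hamp : ∀ N : X.Modules, IsNef k N → ∀ a : ℕ,
      CohB1.IsAmple (CohB1.tensorMod (CohB1.tensorPow N a) (CohB1.tensorPow A 1)) := by
    intro N hN a
    refine key N hN a 1 one_pos ?_
    have h1 := pow_mul_le k (N := fun _ : Fin (e + 1) => N) (A := fun _ => A) (fun _ => hN.1) (fun _ => hA.1)
      hO hdO a 1 Finset.univ (L := fun _ => A) (fun _ => hA.1) fun T => by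
        rw [Finset.piecewise_univ]
        by_cases hT : T = Finset.univ
        · subst hT; rw [Finset.piecewise_univ]; exact hone N hN
        · obtain ⟨i, hi⟩ : ∃ i, i ∉ T := not_forall.1 fun h => hT (Finset.eq_univ_of_forall h)
          exact ha _ (piecewise_nef (fun _ => hN) (fun _ => IsNef.of_isAmple hA) T) i
            (by rw [Finset.piecewise_eq_of_notMem _ _ _ hi]; exact hA)
    rw [Finset.piecewise_univ, Finset.piecewise_univ, Nat.cast_one, one_pow, one_mul] at h1
    exact hc0.trans_le h1.2
  obtain ⟨q, -, hq0, -, hqe⟩ := exists_poly k (N := L) (A := fun _ => A)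
    (fun i => (hL i).1) (fun _ => hA.1) hO hdO Finset.univ (L := L) (fun i => (hL i).1)
  simp only [Finset.piecewise_univ, Finset.card_univ, Fintype.card_fin] at hq0 hqe
  rw [← hq0, Polynomial.coeff_zero_eq_eval_zero]
  refine ge_of_tendsto (q.continuous.continuousAt.tendsto.comp
    (tendsto_one_div_add_atTop_nhds_zero_nat (𝕜 := ℚ))) (Filter.Eventually.of_forall fun n => ?_)
  have h1 := ha _ (fun i => IsNef.of_isAmple (hamp (L i) (hL i) (n + 1))) 0 (hamp (L 0) (hL 0) (n + 1))
  rw [hqe (n + 1) 1 (Nat.succ_pos n)] at h1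
  have h2 := (mul_nonneg_iff_of_pos_left (pow_pos (Nat.cast_pos.2 (Nat.succ_pos n)) _)).1 h1
  simpa using h2

theorem nonnegAt (d : ℕ) : NonnegAt k d := by
  induction d using Nat.strong_induction_on with
  | _ d ih =>
    rcases d with _ | e
    · exact nonnegAt_zero
    · exact nonnegAt_succ fun e' he' => ih e' (Nat.lt_succ_of_le he')

/-- Nef modules have nonnegative intersection numbers on a scheme with an ample module. -/
theorem altT_nonneg (hA : CohB1.IsAmple A) {r : ℕ} {L : Fin r → X.Modules} (hL : ∀ i, IsNef k (L i))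
    {F : X.Modules} (hF : Coh.IsCoh F) (hd : topologicalKrullDim (CohB1.support F) ≤ r) : 0 ≤ altT k L F :=
  (nonnegAt r).coh hA hL hF hd

/-- Ample plus nef is ample. -/
theorem isAmple_pow_tensor (hA : CohB1.IsAmple A) {N : X.Modules} (hN : IsNef k N) (a : ℕ) {b : ℕ}
    (hb : 0 < b) : CohB1.IsAmple (CohB1.tensorMod (CohB1.tensorPow N a) (CohB1.tensorPow A b)) := by
  haveI := Groth.L21.RR.isNoetherian_of_proper (X := X) k
  exact Groth.L22.Nakai.isAmple_of_pos k (isInvertible_mix hN.1 hA.1 a b) fun y d _ hy =>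
    altT_mix_pos hA hN a hb hy fun L hL =>
      altT_nonneg hA hL (pt_facts y).1 ((topologicalKrullDim_set_mono (pt_facts y).2.1).trans hy.le)

theorem isAmple_tensor (hA : CohB1.IsAmple A) {N : X.Modules} (hN : IsNef k N) :
    CohB1.IsAmple (CohB1.tensorMod A N) := by
  have e : CohB1.tensorMod (CohB1.tensorPow N (0 + 1)) (CohB1.tensorPow A (0 + 1)) ≅ CohB1.tensorMod A N :=
    Groth.L00.Tensor.tensorIso (Groth.L00.Tensor.tensorUnitLeft N) (Groth.L00.Tensor.tensorUnitLeft A) ≪≫
      Groth.L00.Tensor.tensorComm N A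
  exact Groth.L18.Ample.isAmple_of_iso e (isAmple_pow_tensor hA hN (0 + 1) Nat.one_pos)

end Groth.L22.Nef
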