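import Groth.Agent.L22.Inter.Fga
import Groth.Agent.L22.Inter.PullNum
import Mathlib.Algebra.Polynomial.Basic

/-!
Symmetry and multilinearity of mixed differences in every slot.
-/

set_option autoImplicit false
set_option backward.isDefEq.respectTransparency false
universe u

open CategoryTheory CategoryTheory.Limits AlgebraicGeometry TopologicalSpace
open scoped Polynomial

noncomputable section

namespace Groth.L22.Nef

open Groth.L22.Inter Groth.L03.Euler

variable {X : Scheme.{u}}

theorem nonempty_tensorList_perm {l l' : List X.Modules} (h : l.Perm l') :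
    Nonempty (FGA.tensorList l ≅ FGA.tensorList l') := by
  induction h with
  | nil => exact ⟨Iso.refl _⟩
  | cons a _ ih => exact ih.map fun e => Groth.L00.Tensor.tensorIso (Iso.refl a) e
  | swap a b l => exact ⟨(Groth.L00.Tensor.tensorAssoc _ _ _).symm ≪≫
      Groth.L00.Tensor.tensorIso (Groth.L00.Tensor.tensorComm _ _) (Iso.refl _) ≪≫
      Groth.L00.Tensor.tensorAssoc _ _ _⟩
  | trans _ _ ih1 ih2 => exact ⟨ih1.some ≪≫ ih2.some⟩

theorem nonempty_tensorPows_perm {r : ℕ} (L : Fin r → X.Modules) (n : Fin r → ℕ) (σ : Equiv.Perm (Fin r)) :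
    Nonempty (Curv2.tensorPows (Coh.structureModule X) r (L ∘ σ) (n ∘ σ) ≅
      Curv2.tensorPows (Coh.structureModule X) r L n) := by
  obtain ⟨e1⟩ := nonempty_tensorList (L ∘ σ) (n ∘ σ) (List.finRange r) (List.nodup_finRange r)
  obtain ⟨e2⟩ := nonempty_tensorList L n (List.finRange r) (List.nodup_finRange r)
  have hp : ((List.finRange r).map fun i => CohB1.tensorPow ((L ∘ σ) i) ((n ∘ σ) i)).Perm
      ((List.finRange r).map fun i => CohB1.tensorPow (L i) (n i)) := by
    have h1 : ((List.finRange r).map σ).Perm (List.finRange r) :=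
      (List.perm_ext_iff_of_nodup ((List.nodup_finRange r).map σ.injective) (List.nodup_finRange r)).2
        fun a => by simpa using ⟨σ.symm a, σ.apply_symm_apply a⟩
    have h2 := h1.map fun i => CohB1.tensorPow (L i) (n i)
    rw [List.map_map] at h2
    exact h2
  obtain ⟨e3⟩ := nonempty_tensorList_perm hp
  exact ⟨eqToIso (by simp [Function.comp_def]) ≪≫ e1.symm ≪≫ e3 ≪≫ e2 ≪≫ eqToIso (by simp)⟩

variable (k : Type u) [Field k] [X.Over (Spec (CommRingCat.of k))]

theorem altT_perm {r : ℕ} (L : Fin r → X.Modules) (σ : Equiv.Perm (Fin r)) (F : X.Modules) :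
    altT k (L ∘ σ) F = altT k L F := by
  rw [altT, altT, alt_apply, alt_apply]
  refine Fintype.sum_equiv (Equiv.arrowCongr σ (Equiv.refl (Fin 2))) _ _ fun v => ?_
  have hv : (fun i => ((Equiv.arrowCongr σ (Equiv.refl (Fin 2)) v) i : ℕ)) ∘ σ = fun i => (v i : ℕ) := by
    funext i; simp
  have h1 : sgn ((Equiv.arrowCongr σ (Equiv.refl (Fin 2))) v) = sgn v := by
    rw [sgn, sgn]
    exact (Fintype.prod_equiv σ _ _ (fun i => by simp)).symm
  rw [h1]
  congr 1
  obtain ⟨e⟩ := nonempty_tensorPows_perm L
    (fun i => ((Equiv.arrowCongr σ (Equiv.refl (Fin 2)) v) i : ℕ)) σ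
  rw [hv] at e
  exact congrArg (Int.cast : ℤ → ℚ) (euler_iso (Groth.L00.Tensor.tensorIso (Iso.refl F) e))

theorem altT_move {r : ℕ} (L : Fin (r + 1) → X.Modules) (i : Fin (r + 1)) (B : X.Modules) (F : X.Modules) :
    altT k (Function.update L i B) F =
      altT k (Fin.cons B fun j : Fin r => L (Equiv.swap 0 i j.succ)) F := by
  rw [← altT_perm k (Function.update L i B) (Equiv.swap 0 i) F]
  congr 1
  funext j
  refine Fin.cases ?_ (fun j => ?_) j
  · simp
  · rw [Function.comp_apply, Fin.cons_succ, Function.update_of_ne]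
    intro h
    have := congrArg (Equiv.swap (0 : Fin (r + 1)) i) h
    rw [Equiv.swap_apply_self, Equiv.swap_apply_right] at this
    exact Fin.succ_ne_zero j this

variable [IsProper (X ↘ Spec (CommRingCat.of k))]

theorem altT_update_pow_tensor {r : ℕ} {L : Fin r → X.Modules} (hL : ∀ i, PicF.IsInvertible (L i)) (i : Fin r)
    {A B : X.Modules} (hA : PicF.IsInvertible A) (hB : PicF.IsInvertible B) {F : X.Modules} (hF : Coh.IsCoh F)
    (h : topologicalKrullDim (CohB1.support F) ≤ r) (a b : ℕ) :
    altT k (Function.update L i (CohB1.tensorMod (CohB1.tensorPow A a) (CohB1.tensorPow B b))) F =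
      a * altT k (Function.update L i A) F + b * altT k (Function.update L i B) F := by
  obtain ⟨r, rfl⟩ := Nat.exists_eq_succ_of_ne_zero (Nat.pos_iff_ne_zero.1 i.pos)
  have hT : ∀ j : Fin r, PicF.IsInvertible (L (Equiv.swap 0 i j.succ)) := fun j => hL _
  rw [altT_move, altT_move, altT_move, altT_add k hT (Groth.L18.Ample.isInvertible_tensorPow hA a)
    (Groth.L18.Ample.isInvertible_tensorPow hB b) hF h, altT_pow k hT hA hF h a, altT_pow k hT hB hF h b]

theorem isInvertible_mix {A B : X.Modules} (hA : PicF.IsInvertible A) (hB : PicF.IsInvertible B) (a b : ℕ) :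
    PicF.IsInvertible (CohB1.tensorMod (CohB1.tensorPow A a) (CohB1.tensorPow B b)) :=
  Groth.L18.GenLoc.isInvertible_tensor (Groth.L18.Ample.isInvertible_tensorPow hA a)
    (Groth.L18.Ample.isInvertible_tensorPow hB b)

/-- The mixed difference in `N^a ⊗ A^b` is a form in `(a, b)`. -/
theorem exists_poly {r : ℕ} {N A : Fin r → X.Modules} (hN : ∀ i, PicF.IsInvertible (N i))
    (hA : ∀ i, PicF.IsInvertible (A i)) {F : X.Modules} (hF : Coh.IsCoh F)
    (h : topologicalKrullDim (CohB1.support F) ≤ r) (S : Finset (Fin r)) :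
    ∀ {L : Fin r → X.Modules}, (∀ i, PicF.IsInvertible (L i)) →
      ∃ q : ℚ[X], q.natDegree ≤ S.card ∧ q.coeff 0 = altT k (S.piecewise N L) F ∧
        q.coeff S.card = altT k (S.piecewise A L) F ∧
        ∀ a b : ℕ, 0 < a →
          altT k (S.piecewise (fun i => CohB1.tensorMod (CohB1.tensorPow (N i) a) (CohB1.tensorPow (A i) b)) L) F =
            (a : ℚ) ^ S.card * q.eval ((b : ℚ) / a) := by
  classical
  induction S using Finset.induction_on with
  | empty => exact fun {L} _ => ⟨Polynomial.C (altT k L F), by simp⟩
  | insert i S hi ih =>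
    intro L hL
    have hupd : ∀ {B : X.Modules}, PicF.IsInvertible B → ∀ j, PicF.IsInvertible (Function.update L i B j) :=
      fun hB j => by
        by_cases hj : j = i
        · subst hj; rw [Function.update_self]; exact hB
        · rw [Function.update_of_ne hj]; exact hL j
    obtain ⟨p, hp, hp0, hpt, hpe⟩ := ih (hupd (hN i))
    obtain ⟨q, hq, hq0, hqt, hqe⟩ := ih (hupd (hA i))
    have hins : ∀ (f : Fin r → X.Modules),
        (insert i S).piecewise f L = S.piecewise f (Function.update L i (f i)) := fun f => by
      funext j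
      by_cases hj : j = i
      · subst hj
        rw [Finset.piecewise_insert_self, Finset.piecewise_eq_of_notMem _ _ _ hi, Function.update_self]
      · rw [Finset.piecewise_insert_of_ne _ _ _ hj]
        by_cases hjS : j ∈ S
        · rw [Finset.piecewise_eq_of_mem _ _ _ hjS, Finset.piecewise_eq_of_mem _ _ _ hjS]
        · rw [Finset.piecewise_eq_of_notMem _ _ _ hjS, Finset.piecewise_eq_of_notMem _ _ _ hjS,
            Function.update_of_ne hj]
    have hcard : (insert i S).card = S.card + 1 := Finset.card_insert_of_notMem hi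
    refine ⟨p + Polynomial.X * q, ?_, ?_, ?_, fun a b ha => ?_⟩
    · rw [hcard]
      refine (Polynomial.natDegree_add_le _ _).trans (max_le (hp.trans (Nat.le_succ _)) ?_)
      refine Polynomial.natDegree_mul_le.trans ?_
      have := Polynomial.natDegree_X_le (R := ℚ)
      omega
    · rw [hins, Polynomial.coeff_add, Polynomial.coeff_X_mul_zero, add_zero, hp0]
    · rw [hins, hcard, Polynomial.coeff_add, Polynomial.coeff_X_mul, hqt,
        Polynomial.coeff_eq_zero_of_natDegree_lt (lt_of_le_of_lt hp (Nat.lt_succ_self _)), zero_add]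
    · let M : Fin r → X.Modules := fun i => CohB1.tensorMod (CohB1.tensorPow (N i) a) (CohB1.tensorPow (A i) b)
      have hM : ∀ i, PicF.IsInvertible (M i) := fun i => isInvertible_mix (hN i) (hA i) a b
      have hS : ∀ B : X.Modules, S.piecewise M (Function.update L i B) = Function.update (S.piecewise M L) i B := fun B => by
        funext j
        by_cases hj : j = i
        · subst hj
          rw [Finset.piecewise_eq_of_notMem _ _ _ hi, Function.update_self, Function.update_self]
        · rw [Function.update_of_ne hj]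
          by_cases hjS : j ∈ S
          · rw [Finset.piecewise_eq_of_mem _ _ _ hjS, Finset.piecewise_eq_of_mem _ _ _ hjS]
          · rw [Finset.piecewise_eq_of_notMem _ _ _ hjS, Finset.piecewise_eq_of_notMem _ _ _ hjS,
              Function.update_of_ne hj]
      have hinv : ∀ j, PicF.IsInvertible (S.piecewise M L j) := fun j => by
        by_cases hjS : j ∈ S
        · rw [Finset.piecewise_eq_of_mem _ _ _ hjS]; exact hM j
        · rw [Finset.piecewise_eq_of_notMem _ _ _ hjS]; exact hL j
      rw [hins, hS, altT_update_pow_tensor k hinv i (hN i) (hA i) hF h a b, ← hS, ← hS, hpe a b ha, hqe a b ha,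
        hcard, Polynomial.eval_add, Polynomial.eval_mul, Polynomial.eval_X]
      field_simp
      ring

/-- Lower bound when all the mixed differences that occur are nonnegative. -/
theorem pow_mul_le {r : ℕ} {N A : Fin r → X.Modules} (hN : ∀ i, PicF.IsInvertible (N i))
    (hA : ∀ i, PicF.IsInvertible (A i)) {F : X.Modules} (hF : Coh.IsCoh F)
    (h : topologicalKrullDim (CohB1.support F) ≤ r) (a b : ℕ) (S : Finset (Fin r)) :
    ∀ {L : Fin r → X.Modules}, (∀ i, PicF.IsInvertible (L i)) →
      (∀ T : Finset (Fin r), 0 ≤ altT k (S.piecewise (T.piecewise N A) L) F) →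
      0 ≤ altT k (S.piecewise (fun i => CohB1.tensorMod (CohB1.tensorPow (N i) a) (CohB1.tensorPow (A i) b)) L) F ∧
        (b : ℚ) ^ S.card * altT k (S.piecewise A L) F ≤
          altT k (S.piecewise (fun i => CohB1.tensorMod (CohB1.tensorPow (N i) a) (CohB1.tensorPow (A i) b)) L) F := by
  classical
  induction S using Finset.induction_on with
  | empty =>
    intro L _ hnn
    have := hnn ∅
    simp at this ⊢
    exact this
  | insert i S hi ih =>
    intro L hL hnn
    have hins : ∀ (f : Fin r → X.Modules),
        (insert i S).piecewise f L = S.piecewise f (Function.update L i (f i)) := fun f => by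
      funext j
      by_cases hj : j = i
      · subst hj
        rw [Finset.piecewise_insert_self, Finset.piecewise_eq_of_notMem _ _ _ hi, Function.update_self]
      · rw [Finset.piecewise_insert_of_ne _ _ _ hj]
        by_cases hjS : j ∈ S
        · rw [Finset.piecewise_eq_of_mem _ _ _ hjS, Finset.piecewise_eq_of_mem _ _ _ hjS]
        · rw [Finset.piecewise_eq_of_notMem _ _ _ hjS, Finset.piecewise_eq_of_notMem _ _ _ hjS,
            Function.update_of_ne hj]
    have hupd : ∀ {B : X.Modules}, PicF.IsInvertible B → ∀ j, PicF.IsInvertible (Function.update L i B j) :=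
      fun hB j => by
        by_cases hj : j = i
        · subst hj; rw [Function.update_self]; exact hB
        · rw [Function.update_of_ne hj]; exact hL j
    have hext : ∀ (f g : Fin r → X.Modules) (B : X.Modules), (∀ j ∈ S, f j = g j) →
        S.piecewise f (Function.update L i B) = S.piecewise g (Function.update L i B) := fun f g B e => by
      funext j
      by_cases hjS : j ∈ S
      · rw [Finset.piecewise_eq_of_mem _ _ _ hjS, Finset.piecewise_eq_of_mem _ _ _ hjS, e j hjS]
      · rw [Finset.piecewise_eq_of_notMem _ _ _ hjS, Finset.piecewise_eq_of_notMem _ _ _ hjS]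
    obtain ⟨hp0, -⟩ := ih (hupd (hN i)) fun T => by
      have := hnn (insert i T)
      rw [hins, Finset.piecewise_insert_self] at this
      rwa [hext _ (T.piecewise N A) _ fun j hj => Finset.piecewise_insert_of_ne _ _ _ (fun e : j = i => hi (e ▸ hj))] at this
    obtain ⟨hq0, hq1⟩ := ih (hupd (hA i)) fun T => by
      have := hnn (T.erase i)
      rw [hins, Finset.piecewise_eq_of_notMem _ _ _ (Finset.notMem_erase i T)] at this
      rwa [hext _ (T.piecewise N A) _ fun j hj => by
        have hji : j ≠ i := fun e => hi (e ▸ hj)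
        by_cases hjT : j ∈ T
        · rw [Finset.piecewise_eq_of_mem _ _ _ hjT, Finset.piecewise_eq_of_mem _ _ _ (Finset.mem_erase.2 ⟨hji, hjT⟩)]
        · rw [Finset.piecewise_eq_of_notMem _ _ _ hjT,
            Finset.piecewise_eq_of_notMem _ _ _ (fun h => hjT (Finset.mem_of_mem_erase h))]] at this
    let M : Fin r → X.Modules := fun i => CohB1.tensorMod (CohB1.tensorPow (N i) a) (CohB1.tensorPow (A i) b)
    have hM : ∀ i, PicF.IsInvertible (M i) := fun i => isInvertible_mix (hN i) (hA i) a b
    have hS : ∀ B : X.Modules, S.piecewise M (Function.update L i B) = Function.update (S.piecewise M L) i B := fun B => by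
      funext j
      by_cases hj : j = i
      · subst hj
        rw [Finset.piecewise_eq_of_notMem _ _ _ hi, Function.update_self, Function.update_self]
      · rw [Function.update_of_ne hj]
        by_cases hjS : j ∈ S
        · rw [Finset.piecewise_eq_of_mem _ _ _ hjS, Finset.piecewise_eq_of_mem _ _ _ hjS]
        · rw [Finset.piecewise_eq_of_notMem _ _ _ hjS, Finset.piecewise_eq_of_notMem _ _ _ hjS,
            Function.update_of_ne hj]
    have hinv : ∀ j, PicF.IsInvertible (S.piecewise M L j) := fun j => by
      by_cases hjS : j ∈ S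
      · rw [Finset.piecewise_eq_of_mem _ _ _ hjS]; exact hM j
      · rw [Finset.piecewise_eq_of_notMem _ _ _ hjS]; exact hL j
    rw [hins, hins, hS, altT_update_pow_tensor k hinv i (hN i) (hA i) hF h a b, ← hS, ← hS,
      Finset.card_insert_of_notMem hi, pow_succ]
    have ha : (0 : ℚ) ≤ a := Nat.cast_nonneg _
    have hb : (0 : ℚ) ≤ b := Nat.cast_nonneg _
    have h1 := mul_nonneg ha hp0
    refine ⟨add_nonneg h1 (mul_nonneg hb hq0), ?_⟩
    have h2 := mul_le_mul_of_nonneg_left hq1 hb
    linarith

end Groth.L22.Nef
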