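import Groth.Agent.L22.Nef.Slot
import Groth.Agent.L22.Nakai.Main
import Groth.Agent.L22.Inter.Mixed

/-!
Nef invertible modules, and transport of intersection numbers to integral subschemes.
-/

set_option autoImplicit false
set_option backward.isDefEq.respectTransparency false
set_option linter.style.haveILetI false
set_option linter.unusedSectionVars false
universe u

open CategoryTheory CategoryTheory.Limits AlgebraicGeometry TopologicalSpace

noncomputable section

namespace Groth.L22.Nef

open Groth.L22.Inter Groth.L03.Euler Groth.L16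

/-- An integral closed subscheme sits on the closure of the image of its generic point. -/
theorem range_eq_closure {X C : Scheme.{u}} (g : C ⟶ X) [IsClosedImmersion g] [IsIntegral C] :
    Set.range g = closure {g (genericPoint C)} := by
  refine Set.Subset.antisymm ?_ (closure_minimal (Set.singleton_subset_iff.2 ⟨_, rfl⟩)
    g.isClosedEmbedding.isClosed_range)
  rintro _ ⟨z, rfl⟩
  exact specializes_iff_mem_closure.1 ((genericPoint_specializes z).map g.continuous)

theorem dim_closure_image {X C : Scheme.{u}} (g : C ⟶ X) [IsClosedImmersion g] [IsIntegral C] :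
    topologicalKrullDim (closure ({g (genericPoint C)} : Set X)) = topologicalKrullDim C := by
  rw [← range_eq_closure g]
  exact (IsHomeomorph.topologicalKrullDim_eq _ g.isEmbedding.toHomeomorph.isHomeomorph).symm

variable (k : Type u) [Field k] {X : Scheme.{u}} [X.Over (Spec (CommRingCat.of k))]

theorem altT_congr {r : ℕ} {L L' : Fin r → X.Modules} (e : ∀ i, Nonempty (L i ≅ L' i)) (F : X.Modules) :
    altT k L F = altT k L' F := by
  rw [altT, altT]
  congr 1
  funext n
  obtain ⟨θ⟩ := nonempty_tensorPows_congr e n (F := Coh.structureModule X)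
  exact congrArg (Int.cast : ℤ → ℚ) (euler_iso (Groth.L00.Tensor.tensorIso (Iso.refl F) θ))

variable [IsProper (X ↘ Spec (CommRingCat.of k))]

/-- Only the generic length matters on the closure of a point. -/
theorem altT_eq_len {r : ℕ} {L : Fin r → X.Modules} (hL : ∀ i, PicF.IsInvertible (L i)) {y : X}
    (hy : topologicalKrullDim (closure ({y} : Set X)) = r) {F : X.Modules} (hF : Coh.IsCoh F)
    (hs : CohB1.support F ⊆ closure {y}) :
    altT k L F = ((CohSupport.len y F).toNat : ℚ) * altT k L (ClSub.quotMod (pt y)) := by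
  haveI := Groth.L21.RR.isNoetherian_of_proper (X := X) k
  have hS : ∀ x, x ∈ ({y} : Finset X) ↔ x ∈ closure ({y} : Set X) ∧
      topologicalKrullDim (closure ({x} : Set X)) = (r : WithBot ℕ∞) := fun x => by
    rw [Finset.mem_singleton]
    exact ⟨fun h => by subst h; exact ⟨subset_closure rfl, hy⟩, fun h =>
      (eq_of_specializes_top isClosed_closure hy.le h.2 (subset_closure rfl)
        (specializes_iff_mem_closure.2 h.1)).symm⟩
  rw [altT_eq_sum k hL isClosed_closure hy.le {y} hS (fun y => ClSub.quotMod (pt y))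
    (fun y _ => pt_facts y) hF hs, Finset.sum_singleton]

/-- Intersection numbers on an integral closed subscheme. -/
theorem altT_push_eq {C : Scheme.{u}} [C.Over (Spec (CommRingCat.of k))] [IsIntegral C] (g : C ⟶ X)
    [IsClosedImmersion g] (hg : g ≫ (X ↘ Spec (CommRingCat.of k)) = C ↘ Spec (CommRingCat.of k)) {r : ℕ}
    (hr : topologicalKrullDim C = r) {L : Fin r → X.Modules} (hL : ∀ i, PicF.IsInvertible (L i)) :
    altT k (fun i => (Scheme.Modules.pullback g).obj (L i)) (Coh.structureModule C) =
      altT k L (ClSub.quotMod (pt (g (genericPoint C)))) := by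
  haveI := Groth.L21.RR.isNoetherian_of_proper (X := X) k
  haveI : X.IsSeparated := ⟨by rw [← terminal.comp_from (X ↘ Spec (CommRingCat.of k))]; infer_instance⟩
  haveI : IsLocallyNoetherian C := LocallyOfFiniteType.isLocallyNoetherian g
  have hO := CohClosedPush.isCoh_structure (X := C)
  have h1 := altT_eq_len k hL ((dim_closure_image g).trans hr) (CohClosedPush.isCoh_push g hO)
    ((CohClosedPush.support_push_subset g _).trans (range_eq_closure g).le)
  rw [CohClosedPush.len_push_structure g] at h1
  simp only [ENat.toNat_one, Nat.cast_one, one_mul] at h1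
  rw [← h1]
  exact congrArg alt (funext fun n => (twEuler_push k g hg hL (Coh.structureModule C) hO.1 n).symm)

theorem altT_integral [IsIntegral X] {r : ℕ} (hr : topologicalKrullDim X = r) {L : Fin r → X.Modules}
    (hL : ∀ i, PicF.IsInvertible (L i)) :
    altT k L (ClSub.quotMod (pt (genericPoint X))) = altT k L (Coh.structureModule X) := by
  haveI := Groth.L21.RR.isNoetherian_of_proper (X := X) k
  have hy : topologicalKrullDim (closure ({genericPoint X} : Set X)) = r := by
    rw [(genericPoint_spec X).def, ← hr]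
    exact IsHomeomorph.topologicalKrullDim_eq _ (Homeomorph.Set.univ X).isHomeomorph
  have h1 := altT_eq_len k hL hy (CohClosedPush.isCoh_structure (X := X))
    (fun z _ => by rw [(genericPoint_spec X).def]; trivial)
  rw [len_structure] at h1
  simpa using h1.symm

/-- Nonnegativity reduces to integral subschemes of top dimension. -/
theorem altT_nonneg_of_points {r : ℕ} {L : Fin r → X.Modules} (hL : ∀ i, PicF.IsInvertible (L i))
    {F : X.Modules} (hF : Coh.IsCoh F) (hd : topologicalKrullDim (CohB1.support F) ≤ r)
    (h : ∀ y : X, topologicalKrullDim (closure ({y} : Set X)) = r → 0 ≤ altT k L (ClSub.quotMod (pt y))) :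
    0 ≤ altT k L F := by
  haveI := Groth.L21.RR.isNoetherian_of_proper (X := X) k
  have hT := CohSupport.isClosed_support F hF.2
  have hS : ∀ x, x ∈ (finite_top hT hd).toFinset ↔ x ∈ CohB1.support F ∧
      topologicalKrullDim (closure ({x} : Set X)) = (r : WithBot ℕ∞) := fun x => Set.Finite.mem_toFinset _
  rw [altT_eq_sum k hL hT hd _ hS (fun y => ClSub.quotMod (pt y)) (fun y _ => pt_facts y) hF subset_rfl]
  exact Finset.sum_nonneg fun y hy => mul_nonneg (Nat.cast_nonneg _) (h y ((hS y).1 hy).2)

/-- Nef invertible modules: nonnegative degree on every integral curve. -/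
def IsNef (L : X.Modules) : Prop :=
  PicF.IsInvertible L ∧ ∀ y : X, topologicalKrullDim (closure ({y} : Set X)) = (1 : ℕ) →
    0 ≤ altT k (fun _ : Fin 1 => L) (ClSub.quotMod (pt y))

variable {k} {L L' : X.Modules}

theorem IsNef.of_isAmple (hL : CohB1.IsAmple L) : IsNef k L :=
  ⟨hL.1, fun y hy => (Groth.L22.Nakai.altT_quotMod_pos k hL (pt y) (by
    rw [Groth.L18.support_vanishingIdeal]; exact hy)).le⟩

theorem IsNef.of_iso (e : L ≅ L') (h : IsNef k L) : IsNef k L' :=
  ⟨Groth.L18.Ample.isInvertible_of_iso e h.1, fun y hy =>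
    (h.2 y hy).trans_eq (altT_congr k (fun _ => ⟨e⟩) _)⟩

theorem IsNef.tensor (h : IsNef k L) (h' : IsNef k L') : IsNef k (CohB1.tensorMod L L') := by
  haveI := Groth.L21.RR.isNoetherian_of_proper (X := X) k
  refine ⟨Groth.L18.GenLoc.isInvertible_tensor h.1 h'.1, fun y hy => ?_⟩
  have hd : topologicalKrullDim (CohB1.support (ClSub.quotMod (pt y))) ≤ (0 + 1 : ℕ) :=
    (topologicalKrullDim_set_mono (pt_facts y).2.1).trans hy.le
  have key : ∀ B : X.Modules, (fun _ : Fin 1 => B) = Fin.cons B (Fin.elim0 : Fin 0 → X.Modules) := fun B => by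
    funext j
    rw [Subsingleton.elim j 0, Fin.cons_zero]
  rw [key, altT_add k (fun i => i.elim0) h.1 h'.1 (pt_facts y).1 hd, ← key, ← key]
  exact add_nonneg (h.2 y hy) (h'.2 y hy)

theorem IsNef.structureModule : IsNef k (Coh.structureModule X) := by
  refine ⟨Groth.L18.Ample.isInvertible_structureModule X, fun y hy => le_of_eq ?_⟩
  rw [show (fun _ : Fin 1 => Coh.structureModule X) = Fin.cons (Coh.structureModule X) Fin.elim0 from
    funext fun j => by rw [Subsingleton.elim j 0, Fin.cons_zero], altT_unit]

theorem IsNef.pow (h : IsNef k L) : ∀ n : ℕ, IsNef k (CohB1.tensorPow L n)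
  | 0 => IsNef.structureModule
  | n + 1 => (IsNef.pow h n).tensor h

/-- Nef modules restrict to nef modules. -/
theorem IsNef.pullback {C : Scheme.{u}} [C.Over (Spec (CommRingCat.of k))]
    [IsProper (C ↘ Spec (CommRingCat.of k))] (g : C ⟶ X) [IsClosedImmersion g]
    (hg : g ≫ (X ↘ Spec (CommRingCat.of k)) = C ↘ Spec (CommRingCat.of k)) (h : IsNef k L) :
    IsNef k ((Scheme.Modules.pullback g).obj L) := by
  refine ⟨Groth.L18.Ample.isInvertible_pullback g h.1, fun z hz => ?_⟩
  haveI := isIntegral_pt z
  let i := (pt z).subschemeι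
  letI : (pt z).subscheme.Over (Spec (CommRingCat.of k)) := ⟨i ≫ (C ↘ Spec (CommRingCat.of k))⟩
  have hd : topologicalKrullDim (pt z).subscheme = (1 : ℕ) := by
    rw [← dim_closure_image i, genericPoint_pt, hz]
  have hg' : (i ≫ g) ≫ (X ↘ Spec (CommRingCat.of k)) = (pt z).subscheme ↘ Spec (CommRingCat.of k) := by
    rw [Category.assoc, hg]; rfl
  have h2 := altT_push_eq k i rfl hd (L := fun _ : Fin 1 => (Scheme.Modules.pullback g).obj L)
    fun _ => Groth.L18.Ample.isInvertible_pullback g h.1
  rw [genericPoint_pt] at h2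
  rw [← h2, altT_congr k
      (L := fun _ : Fin 1 => (Scheme.Modules.pullback i).obj ((Scheme.Modules.pullback g).obj L))
      (L' := fun _ : Fin 1 => (Scheme.Modules.pullback (i ≫ g)).obj L)
      (fun _ => ⟨(Scheme.Modules.pullbackComp i g).app L⟩),
    altT_push_eq k (i ≫ g) hg' hd (L := fun _ : Fin 1 => L) fun _ => h.1]
  refine h.2 _ ?_
  rw [dim_closure_image]
  exact hd

end Groth.L22.Nef
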